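import Cfsg.Agent.Leech.Co3
import Cfsg.Agent.Leech.Orbits275
import Cfsg.Agent.LeechModel.Words
import Cfsg.Agent.McL.ModelData

/-!
The group of the definitions as a group of permutations of 275 vectors.
-/

set_option autoImplicit false
set_option maxRecDepth 100000
set_option maxHeartbeats 0

namespace Cfsg.Agent.McL

open Cfsg Cfsg.Agent.Compute Cfsg.Agent.StemCert Cfsg.Agent.LeechModel

/-- The points. -/
def frame : Frame := ⟨Spor.leechV, Spor.leechU, -16, 275, Model.pts⟩

theorem le_co0 : Spor.McL ≤ Co0 := inf_le_left.trans inf_le_left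

theorem acts : frame.Acts Spor.McL where
  le := le_co0
  fixv g hg := (Subgroup.mem_inf.mp (Subgroup.mem_inf.mp hg).1).2
  fixw g hg := (Subgroup.mem_inf.mp hg).2

theorem frame_X : frame.X = Leech.qX := by
  ext x
  have h : dotInt ((-Spor.leechU : leechLattice) : GolayPt → ℤ) (x : GolayPt → ℤ) =
      -dotInt (Spor.vecU) (x : GolayPt → ℤ) := by
    simp [dotInt, -Fintype.sum_option, Spor.leechU]
  change (_ ∧ _ ∧ dotInt (Spor.vecU) (x : GolayPt → ℤ) = -16) ↔ _ ∧ _ ∧
    dotInt ((-Spor.leechU : leechLattice) : GolayPt → ℤ) (x : GolayPt → ℤ) = 16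
  rw [h]
  constructor <;> rintro ⟨a, b, c⟩ <;> exact ⟨a, b, by omega⟩

theorem good : frame.Good where
  parity := by decide +kernel
  sums := by decide +kernel
  code := by decide +kernel
  norm := by decide +kernel
  dotv := by decide +kernel
  dotw := by decide +kernel
  list := by decide +kernel
  packed := by decide +kernel
  length := by decide +kernel
  nodup := by decide +kernel
  count := by rw [frame_X]; exact Leech.ncard_qX

/-- The spanning certificate. -/
def comb (p : GolayPt) : ℤ × ℤ × List (ℕ × ℤ) := Model.span.getD (Leech.idx p) (0, 0, [])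

theorem spans : frame.Span Model.spanK comb where
  ne := by decide +kernel
  idx := by decide +kernel
  eq := by decide +kernel

/-- The permutation representation on 275 points. -/
noncomputable def ι : ↥Spor.McL →* Equiv.Perm (Fin 275) := acts.rep good (by decide)

theorem ι_injective : Function.Injective ι := acts.rep_injective good _ spans

theorem gens_fix : ∀ a ∈ Model.gensL,
    a.f (Leech.toL (Spor.leechV : GolayPt → ℤ)) = Leech.toL (Spor.leechV : GolayPt → ℤ) ∧
      a.f (Leech.toL (Spor.leechU : GolayPt → ℤ)) = Leech.toL (Spor.leechU : GolayPt → ℤ) := by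
  intro a ha
  simp only [Model.gensL, List.mem_cons, List.not_mem_nil, or_false] at ha
  rcases ha with rfl | rfl | rfl | rfl <;> exact ⟨by decide +kernel, by decide +kernel⟩

theorem gens_mem {a : Leech.LGen} (ha : a ∈ Model.gensL) :
    (a.g : Equiv.Perm leechLattice) ∈ Spor.McL :=
  ⟨⟨a.g.2, fix_of_toL a _ (gens_fix a ha).1⟩, fix_of_toL a _ (gens_fix a ha).2⟩

/-- The lattice generators as elements of the group. -/
noncomputable def baseGen (s : ℕ) : ↥Spor.McL :=
  if hs : s < Model.gensL.length then ⟨_, gens_mem (List.getElem_mem hs)⟩ else 1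

theorem base_checks : frame.genB 9 Model.a0.f (Model.baseCodes.getD 0 0) = true ∧
    frame.genB 9 Model.a1.f (Model.baseCodes.getD 1 0) = true ∧
    frame.genB 9 Model.a2.f (Model.baseCodes.getD 2 0) = true ∧
    frame.genB 9 Model.a3.f (Model.baseCodes.getD 3 0) = true := by
  refine ⟨?_, ?_, ?_, ?_⟩ <;> decide +kernel

theorem coded_base : Coded (w := 9) (k := 4) ι baseGen Model.baseCodes := by
  intro s hs x
  obtain ⟨c0, c1, c2, c3⟩ := base_checks
  have hs' : s < Model.gensL.length := hs
  rw [baseGen, dif_pos hs']
  interval_cases s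
  exacts [acts.rep_gen good _ Model.a0 _ c0 x, acts.rep_gen good _ Model.a1 _ c1 x,
    acts.rep_gen good _ Model.a2 _ c2 x, acts.rep_gen good _ Model.a3 _ c3 x]

/-- The strong generators. -/
noncomputable def gen (s : ℕ) : ↥Spor.McL := evalW baseGen (Model.strongWords.getD s [])

theorem words_ok :
    wordsB 275 9 4 Model.baseCodes Model.strongWords Model.codes 6 = true := by decide +kernel

theorem coded : Coded (w := 9) (k := 6) ι gen Model.codes := coded_of_wordsB coded_base words_ok

/-- The group inside the stabiliser of the lattice. -/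
theorem card_and_simple : Nat.card ↥Spor.McL = 898128000 ∧ IsSimpleGroup ↥Spor.McL := by
  have hv : (-Spor.leechU : leechLattice) ∈ Leech.pts552 := by
    refine ⟨?_, ?_⟩
    · show sqNorm ((-Spor.leechU : leechLattice) : GolayPt → ℤ) = 32
      decide +kernel
    · show dotInt (Spor.leechV : GolayPt → ℤ) ((-Spor.leechU : leechLattice) : GolayPt → ℤ) = 24
      decide +kernel
  have e : Spor.McL.subgroupOf Co0 =
      Leech.stabV3 ⊓ MulAction.stabilizer ↥Co0 (-Spor.leechU) := by
    ext g
    simp only [Subgroup.mem_subgroupOf, Spor.McL, Spor.Co3, Subgroup.mem_inf, Leech.stabV3,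
      MulAction.mem_stabilizer_iff]
    constructor
    · rintro ⟨⟨-, a⟩, b⟩
      refine ⟨a, ?_⟩
      rw [Leech.smul_neg']
      exact congrArg Neg.neg b
    · rintro ⟨a, b⟩
      rw [Leech.smul_neg'] at b
      exact ⟨⟨g.2, a⟩, neg_injective b⟩
  obtain ⟨hs, hc⟩ := Leech.point_stab552 hv
  let f := (Subgroup.subgroupOfEquivOfLe le_co0).symm.trans (MulEquiv.subgroupCongr e)
  exact ⟨(Nat.card_congr f.toEquiv).trans hc, MulEquiv.isSimpleGroup f⟩

theorem card_mcl : Nat.card ↥Spor.McL = 898128000 := card_and_simple.1

instance : IsSimpleGroup ↥Spor.McL := card_and_simple.2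

instance : Finite ↥Spor.McL := Nat.finite_of_card_ne_zero (by rw [card_mcl]; norm_num)

theorem levels_wf : wfB Model.levels = true ∧ gensBelow 6 Model.levels = true := by decide +kernel

theorem base_lt : ∀ b ∈ Model.base, b < 275 := by decide +kernel

theorem levels_distinct : distinctB 9 Model.codes Model.levels Model.base = true := by decide +kernel

theorem levels_forms : numForms Model.levels = 898128000 := by decide +kernel

theorem base_isBase : IsBase ι Model.base :=
  isBase_of_card coded levels_wf.1 levels_wf.2 base_lt levels_distinct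
    (levels_forms.trans card_mcl.symm)

theorem generated : ∀ x : ↥Spor.McL, x ∈ Submonoid.closure (gen '' {s | s < 6}) :=
  generates_of_card coded levels_wf.1 levels_wf.2 base_lt levels_distinct
    (levels_forms.trans card_mcl.symm)

end Cfsg.Agent.McL
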