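import Cfsg.Agent.LeechModel.Chunks
import Cfsg.Agent.McL.ModelData
import Cfsg.Agent.McL.OutTable
import Cfsg.Agent.McL.OutData

/-! Checks of the table. -/

set_option autoImplicit false
set_option maxRecDepth 100000
set_option maxHeartbeats 0

namespace Cfsg.Agent.McL

open Cfsg.Agent.Compute Cfsg.Agent.StemCert Cfsg.Agent.LeechModel

theorem link0 : Out.table.linkB 275 9 6 Model.codes Out.powers Out.tWord 0 225 = true := by decide +kernel

theorem link1 : Out.table.linkB 275 9 6 Model.codes Out.powers Out.tWord 225 450 = true := by decide +kernel

theorem link2 : Out.table.linkB 275 9 6 Model.codes Out.powers Out.tWord 450 675 = true := by decide +kernel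

theorem link3 : Out.table.linkB 275 9 6 Model.codes Out.powers Out.tWord 675 900 = true := by decide +kernel

theorem link4 : Out.table.linkB 275 9 6 Model.codes Out.powers Out.tWord 900 1125 = true := by decide +kernel

theorem link5 : Out.table.linkB 275 9 6 Model.codes Out.powers Out.tWord 1125 1350 = true := by decide +kernel

theorem link6 : Out.table.linkB 275 9 6 Model.codes Out.powers Out.tWord 1350 1575 = true := by decide +kernel

theorem link7 : Out.table.linkB 275 9 6 Model.codes Out.powers Out.tWord 1575 1800 = true := by decide +kernel

theorem link8 : Out.table.linkB 275 9 6 Model.codes Out.powers Out.tWord 1800 2025 = true := by decide +kernel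

theorem link_all : ∀ j < Out.table.size, Out.table.linkB 275 9 6 Model.codes Out.powers Out.tWord j (j + 1) = true := by
  refine Table.link_of_chunks (len := 225) (cnt := 9) (by decide +kernel) fun c hc => ?_
  interval_cases c
  exacts [link0, link1, link2, link3, link4, link5, link6, link7, link8]

end Cfsg.Agent.McL
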