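import Cfsg.Prelude.Def_SporadicB
import Cfsg.Agent.Compute.Perm
import Cfsg.Agent.McL.Out
import Cfsg.Agent.McL.CentData

/-!
The centraliser of an involution is a non-split double cover of the alternating group of degree eight.
-/

set_option autoImplicit false
set_option maxRecDepth 100000
set_option maxHeartbeats 0

namespace Cfsg.Agent.McL

open Cfsg Cfsg.Agent.Compute Cfsg.Agent.StemCert Cfsg.Agent.LeechModel

/-- Permutations of the 275 points and eight more. -/
noncomputable def rep283 : Rep (Equiv.Perm (Fin 283)) (Fin 283) :=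
  permRep 9 283 (Equiv.refl _) (by norm_num) (by norm_num)

/-- Permutations of eight points. -/
noncomputable def rep8 : Rep (Equiv.Perm (Fin 8)) (Fin 8) :=
  permRep 3 8 (Equiv.refl _) (by norm_num) (by norm_num)

/-- A pair of permutations as one permutation. -/
noncomputable def glue : Equiv.Perm (Fin 275) × Equiv.Perm (Fin 8) →* Equiv.Perm (Fin 283) :=
  ((finSumFinEquiv (m := 275) (n := 8)).permCongrHom.toMonoidHom).comp
    (Equiv.Perm.sumCongrHom (Fin 275) (Fin 8))

theorem glue_injective : Function.Injective glue :=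
  (finSumFinEquiv (m := 275) (n := 8)).permCongrHom.injective.comp Equiv.Perm.sumCongrHom_injective

/-- The centraliser. -/
noncomputable abbrev centT : Subgroup ↥Spor.McL := Subgroup.centralizer {tInv}

theorem cent_gen_mem {s : ℕ} (hs : s < 4) : evalW gen (Out.cent0Gens.getD s []) ∈ centT := by
  obtain ⟨h1, -, h3, -⟩ := cent_ok
  simp only [commB, Bool.and_eq_true] at h1
  have hmem : Out.cent0Gens.getD s [] ∈ Out.cent0Gens := by
    rw [List.getD_eq_getElem _ _ (h3.symm ▸ hs)]
    exact List.getElem_mem _
  have hu := allB_spec h1.2 _ hmem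
  simp only [Bool.and_eq_true] at hu
  have hul : ∀ a ∈ Out.cent0Gens.getD s [], a < 6 := fun a ha => Nat.blt_eq.mp (allB_spec hu.1 a ha)
  have := eq_of_eqOn coded base_isBase (a := Out.cent0Gens.getD s [] ++ Out.tWord)
    (b := Out.tWord ++ Out.cent0Gens.getD s [])
    (fun a ha => (List.mem_append.mp ha).elim (hul a) (tWord_lt a))
    (fun a ha => (List.mem_append.mp ha).elim (tWord_lt a) (hul a)) hu.2
  rw [evalW_append, evalW_append] at this
  exact Subgroup.mem_centralizer_singleton_iff.mpr this

/-- The generators of the centraliser. -/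
noncomputable def centGen (s : ℕ) : centT :=
  if hs : s < 4 then ⟨_, cent_gen_mem hs⟩ else 1

theorem coded_cent : Coded (w := 9) (k := 4) (ι.comp centT.subtype) centGen Out.cent0Codes := by
  intro s hs x
  have h := coded_of_wordsB coded cent_ok.2.1 s hs x
  simp only [centGen, dif_pos hs, MonoidHom.comp_apply, Subgroup.coe_subtype]
  exact h

theorem centGen_top : Subgroup.closure (centGen '' {s | s < 4}) = ⊤ := by
  obtain ⟨-, -, -, h4, h5, h6, h7⟩ := cent_ok
  refine eq_top_iff.mpr fun x _ => ?_
  exact Submonoid.closure_le (S := (Subgroup.closure (centGen '' {s | s < 4})).toSubmonoid) |>.mpr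
    Subgroup.subset_closure (generates_of_card coded_cent h4 h5 cent0_lt h6 (by rw [h7, card_centralizer]) x)

theorem pair_ok : allBelow 4 (fun s => codePermB 9 283 (Cent.pairCodes.getD s 0) &&
      codePermB 3 8 (Cent.eightCodes.getD s 0) &&
      allBelow 275 (fun i => Nat.beq (getField 9 (Cent.pairCodes.getD s 0) i)
        (getField 9 (Out.cent0Codes.getD s 0) i)) &&
      allBelow 8 (fun i => Nat.beq (getField 9 (Cent.pairCodes.getD s 0) (Nat.add 275 i))
        (Nat.add 275 (getField 3 (Cent.eightCodes.getD s 0) i)))) = true ∧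
    Cent.pairCodes = topGens Cent.pairChain ∧ Cent.pairCodes.length = 4 ∧
    rep283.checkChain Cent.pairChain = true ∧ chainSize Cent.pairChain = 40320 := by
  refine ⟨?_, ?_, ?_, ?_, ?_⟩ <;> decide +kernel

/-- A generator of the centraliser with its image on eight points. -/
noncomputable def pairGen (s : ℕ) : Equiv.Perm (Fin 275) × Equiv.Perm (Fin 8) :=
  (ι (centGen s : ↥Spor.McL), rep8.den (Cent.eightCodes.getD s 0))

theorem glue_pairGen {s : ℕ} (hs : s < 4) :
    glue (pairGen s) = rep283.den (Cent.pairCodes.getD s 0) := by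
  have h := allBelow_eq_true.mp pair_ok.1 s hs
  simp only [Bool.and_eq_true, allBelow_eq_true, Nat.beq_eq] at h
  obtain ⟨⟨⟨hp, he⟩, h275⟩, h8⟩ := h
  refine (denPerm_ext _ (codePerm_of_check hp) _ fun i => ?_).symm
  have hg : glue (pairGen s) = (finSumFinEquiv (m := 275) (n := 8)).permCongr
      (Equiv.sumCongr (ι (centGen s : ↥Spor.McL)) (rep8.den (Cent.eightCodes.getD s 0))) := rfl
  refine Fin.addCases (m := 275) (n := 8) (fun j => ?_) (fun j => ?_) i <;> apply Fin.ext
  · show ((glue (pairGen s)) (Fin.castAdd 8 j) : ℕ) = getField 9 _ (j : ℕ)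
    rw [h275 j j.2, hg, Equiv.permCongr_apply, finSumFinEquiv_symm_apply_castAdd,
      Equiv.sumCongr_apply, Sum.map_inl, finSumFinEquiv_apply_left, Fin.val_castAdd]
    exact coded_cent s hs j
  · show ((glue (pairGen s)) (Fin.natAdd 275 j) : ℕ) = getField 9 _ ((Fin.natAdd 275 j : Fin 283) : ℕ)
    rw [Fin.val_natAdd, show getField 9 _ (275 + (j : ℕ)) = _ from h8 j j.2, hg,
      Equiv.permCongr_apply, finSumFinEquiv_symm_apply_natAdd, Equiv.sumCongr_apply, Sum.map_inr,
      finSumFinEquiv_apply_right, Fin.val_natAdd]
    show 275 + _ = 275 + _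
    congr 1
    exact congrArg Fin.val (denPerm_apply (Equiv.refl (Fin 8)) (codePerm_of_check he) j)

/-- The graph of the action on eight points. -/
noncomputable def graph : Subgroup (Equiv.Perm (Fin 275) × Equiv.Perm (Fin 8)) :=
  Subgroup.closure (pairGen '' {s | s < 4})

theorem card_graph : Nat.card graph = 40320 := by
  obtain ⟨-, htop, hlen, hc, hsize⟩ := pair_ok
  rw [← hsize, ← rep283.card_chainGroup _ hc,
    ← Subgroup.card_map_of_injective (K := graph) glue_injective]
  have e : graph.map glue = rep283.chainGroup Cent.pairChain := by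
    rw [graph, MonoidHom.map_closure, Rep.chainGroup, Rep.span, ← htop]
    congr 1
    ext y
    constructor
    · rintro ⟨_, ⟨s, hs, rfl⟩, rfl⟩
      refine ⟨Cent.pairCodes.getD s 0, ?_, (glue_pairGen hs).symm⟩
      show _ ∈ Cent.pairCodes
      rw [List.getD_eq_getElem _ _ (hlen.symm ▸ hs)]
      exact List.getElem_mem _
    · rintro ⟨c, hc', rfl⟩
      obtain ⟨s, hs, rfl⟩ := List.getElem_of_mem (show c ∈ Cent.pairCodes from hc')
      refine ⟨_, ⟨s, hlen ▸ hs, rfl⟩, ?_⟩
      rw [glue_pairGen (hlen ▸ hs), List.getD_eq_getElem _ _ hs]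
  rw [e]

theorem eight_ok : rep8.checkChain Cent.eightChain = true ∧ chainSize Cent.eightChain = 20160 ∧
    (topGens Cent.eightChain).length = Cent.eightWords.length ∧
    allBelow Cent.eightWords.length (fun k =>
      allB (fun s => Nat.blt s 4) (Cent.eightWords.getD k []) &&
      codePermB 3 8 ((topGens Cent.eightChain).getD k 0) && allBelow 8 (fun i =>
        Nat.beq (getField 3 ((topGens Cent.eightChain).getD k 0) i)
          (appW 3 Cent.eightCodes (Cent.eightWords.getD k []) i))) = true ∧
    allBelow 4 (fun s => memB (Cent.eightCodes.getD s 0) (topGens Cent.eightChain)) = true := by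
  refine ⟨?_, ?_, ?_, ?_, ?_⟩ <;> decide +kernel

theorem eight_gens : Subgroup.closure ((fun s => rep8.den (Cent.eightCodes.getD s 0)) '' {s | s < 4}) =
    rep8.chainGroup Cent.eightChain := by
  obtain ⟨-, -, hlen, hw, hmem⟩ := eight_ok
  refine le_antisymm ((Subgroup.closure_le _).mpr ?_) ((Subgroup.closure_le _).mpr ?_)
  · rintro _ ⟨s, hs, rfl⟩
    exact rep8.den_mem_span (memB_eq_true.mp (allBelow_eq_true.mp hmem s hs))
  · rintro _ ⟨c, hc, rfl⟩
    obtain ⟨k, hk, rfl⟩ := List.getElem_of_mem (show c ∈ topGens Cent.eightChain from hc)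
    have h := allBelow_eq_true.mp hw k (hlen ▸ hk)
    simp only [Bool.and_eq_true, allBelow_eq_true, Nat.beq_eq, List.getD_eq_getElem _ _ hk] at h
    obtain ⟨⟨hl, hp⟩, hpt⟩ := h
    have hco : Coded (w := 3) (k := 4) (MonoidHom.id (Equiv.Perm (Fin 8)))
        (fun s => rep8.den (Cent.eightCodes.getD s 0)) Cent.eightCodes := by
      intro s hs x
      have hs' := allBelow_eq_true.mp pair_ok.1 s hs
      simp only [Bool.and_eq_true] at hs'
      exact congrArg Fin.val (denPerm_apply (Equiv.refl (Fin 8)) (codePerm_of_check hs'.1.1.2) x)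
    have e : rep8.den ((topGens Cent.eightChain)[k]) =
        evalW (fun s => rep8.den (Cent.eightCodes.getD s 0)) (Cent.eightWords.getD k []) := by
      refine denPerm_ext _ (codePerm_of_check hp) _ fun i => Fin.ext ?_
      have := appW_spec hco (Cent.eightWords.getD k []) (fun s hs => Nat.blt_eq.mp (allB_spec hl s hs)) i
      exact this.trans (hpt i i.2).symm
    rw [e]
    exact list_prod_mem fun y hy => by
      obtain ⟨s, hs, rfl⟩ := List.mem_map.mp hy
      exact Subgroup.subset_closure ⟨s, Nat.blt_eq.mp (allB_spec hl s hs), rfl⟩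

/-- The centraliser is a non-split double cover of the alternating group. -/
theorem centralizer_cover : IsNonsplitDoubleCover centT (alternatingGroup (Fin 8)) := by
  classical
  let ιC : centT →* Equiv.Perm (Fin 275) := ι.comp centT.subtype
  have hιC : Function.Injective ιC := ι_injective.comp Subtype.val_injective
  let p1 : graph →* Equiv.Perm (Fin 275) := (MonoidHom.fst _ _).comp graph.subtype
  have hr : p1.range = ιC.range := by
    rw [MonoidHom.range_comp, Subgroup.range_subtype, graph, MonoidHom.map_closure,
      MonoidHom.range_eq_map ιC, ← centGen_top, MonoidHom.map_closure, Set.image_image,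
      Set.image_image]
    rfl
  have hp1 : Function.Injective p1 := by
    have h1 : Nat.card p1.range = Nat.card graph := by
      rw [hr, ← Nat.card_congr (MonoidHom.ofInjective hιC).toEquiv, card_graph]
      exact card_centralizer
    have h2 := Subgroup.card_mul_index p1.ker
    rw [Subgroup.index_ker, h1] at h2
    have h3 : Nat.card p1.ker = 1 :=
      (mul_eq_right₀ (by rw [card_graph]; norm_num)).mp h2
    exact (MonoidHom.ker_eq_bot_iff p1).mp (Subgroup.card_eq_one.mp h3)
  let e : graph ≃* centT := ((MonoidHom.ofInjective hp1).trans (MulEquiv.subgroupCongr hr)).trans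
    (MonoidHom.ofInjective hιC).symm
  let φ : centT →* Equiv.Perm (Fin 8) :=
    ((MonoidHom.snd _ _).comp graph.subtype).comp e.symm.toMonoidHom
  have hφ : φ.range = rep8.chainGroup Cent.eightChain := by
    rw [MonoidHom.range_comp, MonoidHom.range_eq_top.mpr e.symm.surjective, ← MonoidHom.range_eq_map,
      MonoidHom.range_comp, Subgroup.range_subtype, graph, MonoidHom.map_closure, Set.image_image,
      ← eight_gens]
    rfl
  have hcard8 : Nat.card φ.range = 20160 := by
    rw [hφ, rep8.card_chainGroup _ eight_ok.1, eight_ok.2.1]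
  have halt : φ.range = alternatingGroup (Fin 8) := by
    refine Equiv.Perm.eq_alternatingGroup_of_index_eq_two ?_
    have h := Subgroup.card_mul_index φ.range
    rw [hcard8, Nat.card_perm, Nat.card_fin, show Nat.factorial 8 = 20160 * 2 by rfl] at h
    omega
  have hker : Nat.card φ.ker = 2 := by
    have h := Subgroup.card_mul_index φ.ker
    rw [Subgroup.index_ker, hcard8, show Nat.card centT = 40320 from card_centralizer] at h
    omega
  let π : centT →* alternatingGroup (Fin 8) :=
    (MulEquiv.subgroupCongr halt).toMonoidHom.comp φ.rangeRestrict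
  have hπ : Function.Surjective π :=
    (MulEquiv.subgroupCongr halt).surjective.comp φ.rangeRestrict_surjective
  have hkπ : π.ker = φ.ker := by
    ext x
    simp [π, MonoidHom.mem_ker]
  have hcen : Subgroup.center centT = π.ker := by
    refine le_antisymm (fun g hg => ?_) (fun g hg => ?_)
    · have : π g ∈ Subgroup.center (alternatingGroup (Fin 8)) := by
        rw [Subgroup.mem_center_iff]
        intro a
        obtain ⟨b, rfl⟩ := hπ a
        rw [← map_mul, ← map_mul, Subgroup.mem_center_iff.1 hg b]
      rwa [alternatingGroup.center_eq_bot (by simp), Subgroup.mem_bot] at this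
    · rw [Subgroup.mem_center_iff]
      intro b
      have hb : b * g * b⁻¹ ∈ π.ker := (MonoidHom.normal_ker π).conj_mem g hg b
      rw [hkπ] at hg hb
      obtain ⟨x, y, hxy, hset⟩ := Nat.card_eq_two_iff.mp hker
      have all2 : ∀ z : φ.ker, z = x ∨ z = y := fun z => by
        have hz : z ∈ ({x, y} : Set φ.ker) := hset ▸ Set.mem_univ z
        simpa using hz
      have : b * g * b⁻¹ = g := by
        by_contra hne
        have h1 : g ≠ 1 := fun h => hne (by rw [h]; simp)
        have h2 : b * g * b⁻¹ ≠ 1 := fun h => h1 (by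
          have := congrArg (fun z => b⁻¹ * z * b) h
          simpa [mul_assoc] using this)
        rcases all2 ⟨g, hg⟩ with hx | hx <;> rcases all2 ⟨_, hb⟩ with hy | hy <;>
          rcases all2 1 with ho | ho <;>
          first
            | exact hne (congrArg Subtype.val (hy.trans hx.symm))
            | exact h1 (congrArg Subtype.val (hx.trans ho.symm))
            | exact h2 (congrArg Subtype.val (hy.trans ho.symm))
      calc b * g = b * g * b⁻¹ * b := by group
        _ = g * b := by rw [this]
  refine ⟨by rw [hcen, hkπ]; exact hker,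
    ⟨(QuotientGroup.quotientMulEquivOfEq hcen).trans (QuotientGroup.quotientKerEquivOfSurjective π hπ)⟩,
    fun L hL => ?_⟩
  have htc : (⟨tInv, Subgroup.mem_centralizer_singleton_iff.mpr rfl⟩ : centT) ∈ Subgroup.center centT := by
    rw [Subgroup.mem_center_iff]
    intro b
    exact Subtype.ext (Subgroup.mem_centralizer_singleton_iff.mp b.2)
  have hu : evalW gen Cent.rootWord * evalW gen Cent.rootWord = tInv := by
    have hlt : ∀ s ∈ Cent.rootWord, s < 6 := by decide +kernel
    have := eq_of_eqOn coded base_isBase (a := Cent.rootWord ++ Cent.rootWord) (b := Out.tWord)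
      (fun s hs => (List.mem_append.mp hs).elim (hlt s) (hlt s)) tWord_lt
      (show eqOn 9 Model.codes Model.base _ _ = true by decide +kernel)
    rwa [evalW_append] at this
  have humem : evalW gen Cent.rootWord ∈ centT := by
    rw [Subgroup.mem_centralizer_singleton_iff, ← hu, mul_assoc]
  have hidx : L.index = 2 := by
    rw [hL.index_eq_card, hcen, hkπ]; exact hker
  have hmem := Subgroup.mul_self_mem_of_index_two hidx ⟨_, humem⟩
  have h1 := Subgroup.disjoint_def.1 hL.disjoint htc (by
    convert hmem using 1
    exact Subtype.ext hu.symm)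
  have := congrArg (fun z : centT => orderOf (z : ↥Spor.McL)) h1
  simp [orderOf_tInv] at this

end Cfsg.Agent.McL
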