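import Mathlib

/-! Data for the Sylow two-subgroup. -/

set_option autoImplicit false
set_option maxRecDepth 100000
set_option maxHeartbeats 0
set_option linter.all false

namespace Cfsg.Agent.McL.Fus

/-- The position of the central involution. -/
def zIdx : ℕ := 116

/-- A conjugating word and its inverse. -/
def conjWord : List ℕ := []

/-- The inverse word. -/
def conjInv : List ℕ := []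

/-- Representatives of the cosets of the Sylow subgroup in the centraliser. -/
def cosetWords : List (List ℕ) := [[],
  [5,2,4,3,0,4,2,2,1,5,4,3,4,2,1,3],
  [2,5,2,2,1,5,1,1,3,2,4,3,1,1],
  [2,3,2,1,4,1,2,2,1,2,1],
  [5,2,0,0,0,3,1,2,1,5,2,4,1,4,2,4,1,2,1,1,2,1],
  [4,3,0,3,2,5,5,3,1,2,1,4,1,2,3,1,2,1],
  [5,2,4,3,0,5,4,1,2,5,2,1,1,4,3,2,1,2,1,1],
  [5,2,4,3,0,4,2,2,5,3,1,4,1,2,3,1,2],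
  [5,2,4,3,0,2,1,2,5,3,4,1,2,1,4,1,3,1,2,3],
  [5,1,1,2,5,1,2,1,1,4,2,2,3,2,1,1],
  [5,3,4,1,2,5,3,4,2,4,2,3,1,1],
  [4,5,2,5,4,3,1,1,4,3,1,1,2,1,1],
  [5,2,4,3,0,4,2,2,1,5,3,4,1,2,1,4,1,1,3],
  [2,5,2,2,1,5,4,3,2,1,1,4,1,1,2,1,1],
  [2,4,1,3,4,3,1,2,2,3,1,1],
  [1,4,3,1,1,4,1,3,1,1,2,1,1],
  [0,0,4,2,5,2,2,5,4,2,3,1,2,1,1],
  [5,3,1,2,0,2,1,1,5,2,2,1,4,2,1,3],
  [2,0,0,2,1,0,1,3,2,5,2,2,3,1,4,3,2,3],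
  [2,0,0,2,1,0,5,1,3,2,1,4,1,2,2,1,1],
  [2,5,4,2,0,5,5,2,5,2,3,2,4,3,1,2,1],
  [2,2,1,0,4,2,5,5,4,2,2,1,1,3],
  [4,2,0,0,0,5,1,2,5,1,5,3,4,1,2,1,4,1,2,1,3,1],
  [5,1,2,1,0,4,5,2,5,1,2,1,4,2,1,2,2],
  [5,2,0,0,0,5,2,3,5,3,1,4,2,3,2,2,1,1],
  [4,3,0,5,3,4,5,2,5,3,1,4,2,4,2,2,1,1,3,1],
  [5,2,4,3,0,3,2,5,1,4,2,4,2,3,2],
  [5,2,4,3,0,5,1,2,1,5,4,3,4,3,1,2,3,1,1],
  [5,2,0,0,0,2,3,5,2,4,1,4,2,4,2,1,1,3,2,1,1],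
  [4,3,0,3,5,3,1,3,4,2,1,1,2,1],
  [5,2,0,0,0,1,1,5,2,5,4,1,3,4,1,1,3,2,1,1],
  [4,3,0,2,2,5,3,2,5,1,4,2,2,4,2,1,1,2,1,1],
  [5,2,4,3,0,1,5,2,2,5,1,2,4,2,4,3,1,3,2,1],
  [5,2,4,3,0,2,1,2,5,2,1,2,4,1],
  [5,2,4,3,0,5,1,4,2,5,2,4,2,4,1,2,1,1,2,1],
  [2,1,4,2,5,1,2,4,3,1,3,2,1,1],
  [1,2,5,1,5,1,4,2,1,4,1,3,2,1,2,2,1,1],
  [5,2,4,3,0,5,3,4,5,2,5,4,3,1,1,4,2,2,3,1,1],
  [2,3,2,5,5,3,4,3,2,4,1,2,1,3,2,1,1],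
  [2,5,5,2,1,5,3,1,2,3,4,2,1,2,1,3,2,1,1],
  [5,5,4,2,2,5,3,2,2,1,4,3,2,1,2,3],
  [5,2,4,3,0,1,2,5,2,4,3,2,1,1,4,2,3,1,2],
  [1,4,1,5,5,1,2,3,4,2,3,1,2],
  [5,1,4,2,5,4,2,3,1,1,4,2,1,2,3,1,1],
  [5,2,0,0,0,3,1,2,1,5,2,4,1,2,4,2,3,2,2],
  [4,3,0,3,2,5,5,4,1,2,3,1,4,1,3,1],
  [5,2,4,3,0,5,4,1,2,5,2,4,3,1,2,2,3,1],
  [5,2,4,3,0,4,2,2,5,1,4,1,2,1,4,1,1,3],
  [5,2,4,3,0,2,1,2,5,4,1,2,3,4,3,1,3,2,1],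
  [5,1,1,2,5,1,1,2,1,4,2,3,1],
  [5,3,4,1,2,5,2,1,4,1,3,1],
  [5,2,4,3,0,4,2,2,1,5,1,4,1,3,2,1,2,2,1],
  [2,5,2,2,1,5,4,1,4,2,4,1,2,3,1,2,1,1],
  [5,2,4,3,0,4,2,2,1,5,2,4,1,4,2,4,3,2,1,2,1],
  [2,5,2,2,1,5,2,4,2,1,4],
  [2,4,2,1,0,2,3,5,2,5,1,4,3,1,2,4,3,2,1,3,1,1],
  [5,3,2,1,0,2,5,3,2,5,4,3,1,1,4,2,3,2,1,1],
  [5,3,2,1,0,4,1,2,5,2,5,2,4,1,3,4,3,2,1,2,2],
  [1,5,1,0,2,0,0,4,5,4,2,5,4,2,4,3,2,1,3],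
  [4,2,0,0,0,1,5,3,2,5,3,4,1,2,1,4,1,2,1,1],
  [0,3,4,2,1,0,2,5,3,2,5,4,1,4,2,4,1,2,1,3,1],
  [5,2,0,0,0,1,4,2,5,1,5,1,4,2,4,3,1,2],
  [5,2,0,0,0,1,4,2,5,1,5,4,3,2,2,1,4,1,3,1,2,1,1],
  [0,3,4,2,1,0,4,5,4,2,5,2,3,2,4,2,3,2,2],
  [1,0,0,2,3,0,2,2,1,5,5,1,2,3,1,4,1,1,3],
  [0,0,1,4,1,5,5,1,3,1],
  [0,3,4,2,1,0,2,2,5,5,4,2,1,2,4,1,2,2,1],
  [2,5,4,2,0,3,2,5,2,3,2,4,1,3,1,2,3,1],
  [1,0,0,2,0,0,5,3,4,1,2,5,1,3,2,1,4,1,2,3,1,2],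
  [2,4,2,1,0,4,5,2,5,4,1,2,1,4,2,1,1,3,2,1],
  [0,2,3,1,0,3,2,5,4,2,4,3,2,1,1],
  [5,2,0,0,0,2,3,5,1,2,3,1,4,2,3,2,2,1],
  [0,0,2,0,3,2,5,3,2,1,1,4,3,2,1],
  [3,0,2,0,2,5,2,1,5,2,3,1,4,3,2,1,2,2,1,1],
  [1,0,1,0,2,0,2,4,2,5,4,1,4,2,4,3,2,1,2],
  [3,4,2,0,0,5,4,5,1,5,3,4,3,4,1,1,3,2,1,1],
  [2,2,1,2,0,2,5,4,2,5,4,3,1,2,2,3,1],
  [0,0,2,2,5,3,2,5,2,4,1,4,2,4,1,3,1,2],
  [2,5,4,2,0,4,5,1,5,2,1,4,2,1,2,3,1],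
  [2,2,1,0,2,5,5,2,2,1,4,2,2,3,1,1],
  [4,2,0,0,0,5,4,2,3,5,3,2,1,2,4,1,2,1,3,1],
  [5,2,0,0,0,5,3,4,1,2,5,4,2,2,1,4,1,2,3,1],
  [4,3,0,3,4,5,5,2,1,1,2,1,4,2,1,1,3,2,1],
  [5,2,0,0,0,5,2,1,5,1,4,1,1,3],
  [4,3,0,2,4,5,3,5,1,1,4,2,4,3,1,1,2],
  [5,3,1,2,0,5,2,1,5,1,4,2,1,4,2,3,2,2,1],
  [2,0,0,2,1,0,1,2,5,2,5,4,3,4,2,4,1,2,2,3,1,1],
  [2,0,0,2,1,0,1,2,5,2,5,3,4,2,4,2,1,3,1,1],
  [2,5,4,2,0,2,5,2,4,1,2,4,1,1,3,1],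
  [2,2,1,0,5,2,1,5,4,3,1,1,4,1,1],
  [4,2,0,0,0,5,1,2,5,1,1,4,2,4,2,2,3,2,1],
  [5,1,2,1,0,4,2,4,2,5,1,2,1,3,4,1,1],
  [0,0,5,1,3,1,5,2,4,3,4,3,2,3,1,2,1],
  [5,3,1,2,0,5,1,4,2,5,2,2,4,1,2,1,1,2],
  [2,0,0,2,1,0,3,5,1,2,1,1,4,3,2,1,3,1,1],
  [2,0,0,2,1,0,1,1,2,5,5,3,1,2,4,3,1,2,2,1,1],
  [2,5,4,2,0,1,1,5,2,5,2,3,1,1,4,3,1,3,2,1,1],
  [2,2,1,0,4,1,2,5,1,4,2,2,4,1,2,2,1,2,1],
  [4,2,0,0,0,5,2,1,5,2,2,1,1,4,1,1,3,1,2,1,1],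
  [5,2,0,0,0,1,1,2,5,4,1,2,4,1,1,3,1,2,1,1],
  [4,3,0,2,5,5,2,1,5,4,3,4,2,4,1,2],
  [5,2,0,0,0,1,1,5,2,5,4,3,1,1,4,1,2,2,1,1],
  [4,3,0,2,2,5,3,2,5,1,2,1,1,4,1,3,2,1,1,2,1],
  [5,2,4,3,0,1,5,2,2,5,2,4,3,2,1,1,4,1,1,2,1],
  [5,2,0,0,0,1,2,3,5,2,1,4,2,4,1,2,3,1,2],
  [4,3,0,1,5,5,1,2,3,4,2,3,1,2],
  [5,2,4,3,0,4,5,5,2,1,1,4,1,3,1,1],
  [5,2,4,3,0,5,4,2,3,1,1,4,2,2,1,2,2,1,1],
  [5,2,4,3,0,4,2,5,2,2,5,2,3,4,3,2,1,1,2],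
  [1,2,1,5,2,4,2,1,2,4,3,2,1,2,1,1],
  [2,1,1,5,2,1,4,2,1,3,1],
  [5,3,4,5,2,5,3,4,2,1,4,2,3,1,1],
  [5,2,4,3,0,1,5,5,2,5,2,1,4,2,4,3,1,3,2],
  [4,5,1,2,5,4,2,1,4,2,2,1,1,2],
  [4,3,0,4,2,5,5,2,3,1,4,1,2,2,1,1,3],
  [5,2,4,3,0,5,5,2,1,5,3,4,1,2,1,4,2,1,3,2,1,1],
  [5,2,4,3,0,2,4,5,5,1,2,4,2,1,2,1,3,2,1],
  [5,2,4,3,0,3,5,1,2,1,5,4,3,1,1,4,3,2,1,1],
  [4,5,4,2,5,2,4,1,3,4,3,2,1,3,2,1],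
  [2,2,5,5,1,4,2,4,2,1,2,2],
  [1,1,2,1,5,3,2,4,3,2,1,3,1],
  [1,1,5,2,3,4,2,1,1,3,2,1,1],
  [3,4,5,2,5,2,1,4,2,4,2,2,1,1,2],
  [4,1,5,2,5,1,4,2,2,4,1,1,3,2],
  [5,2,4,3,0,4,1,5,2,5,4,1,3,4,2,2,1,1,3],
  [4,1,3,2,5,3,1,2,3,4,1,1,3,1,1],
  [4,3,0,4,2,5,1,5,2,1,3,2,1,4,3,2,1,2,2,1],
  [5,2,4,3,0,2,5,3,4,1,2,4,2,2,1,1,2,1,1],
  [5,2,4,3,0,2,5,1,3,2,5,3,4,2,4,2,2,1,1,3,1,1],
  [5,2,4,3,0,5,3,2,5,2,3,4,3,2,3,1,1],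
  [1,1,5,2,5,3,4,1,2,1,1,2,1],
  [0,0,4,2,5,2,2,5,1,4,3,1,1,4,3,2,1,3,2,1,1],
  [5,3,1,2,0,2,1,1,5,4,2,1,2,4,1,2,3,1,2,1],
  [2,0,0,2,1,0,1,3,2,5,2,2,3,4,2,2,1,2,1],
  [2,0,0,2,1,0,5,3,1,4,2,3,1,2],
  [2,2,1,0,4,2,5,5,1,1,4,2,4,2,1,2,1,3,2],
  [5,1,2,1,0,4,5,2,5,3,4,3,4,2,2,3,2],
  [4,3,0,5,3,4,5,2,5,1,4,3,1,1,4,1,2,2,3,1,1],
  [5,2,0,0,0,2,3,5,3,4,1,2,1,4,3,1,2,2,3],
  [4,3,0,3,5,4,2,4,3,4,3,2,1,2,2],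
  [5,2,4,3,0,1,5,2,2,5,4,2,1,2,4,3,1,1],
  [3,4,3,5,4,1,4,2,4,1,2,2,3,1],
  [5,2,4,3,0,5,3,4,5,2,5,1,2,1,1,4,1,1,3,1,2],
  [4,3,0,3,2,5,5,1,2,3,1,4,1,3,1,2,3,1],
  [5,2,4,3,0,5,4,1,2,5,3,2,3,1,1,4,1,3,2],
  [5,3,4,1,2,5,4,3,4,2,4,2,1,3,1],
  [4,5,2,5,1,3,2,1,2,2],
  [4,3,0,3,2,5,5,1,3,2,1,4,1,2,1,1,2,1],
  [5,2,4,3,0,5,4,1,2,5,2,3,4,1,2,3,1,2,1,1],
  [5,2,4,3,0,4,2,2,5,2,1,4,1,2,1,4,1,3,1,2],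
  [5,3,4,1,2,5,2,4,2,4,1,1,2,1],
  [4,5,2,5,1,4,3,1,1,4,2,1,3,1,2,1],
  [4,2,2,0,2,0,0,5,1,2,5,3,2,2,1,4,1,3,2,1,2,2],
  [3,0,2,0,2,1,4,2,5,2,4,2,2,1,4,3,1,2,2,1],
  [5,1,2,1,0,1,2,1,5,4,2,1,4,1,2,2,1,2,1],
  [0,0,3,5,3,2,5,3,4,3,1,2,1,1],
  [0,0,1,4,1,2,5,3,1,2,4,1,2,2,3,1],
  [5,3,2,1,0,4,2,2,5,1,4,1,2,1,4,1,3,2,1,2],
  [5,1,2,1,0,2,2,3,5,4,3,2,1,1,4,3,2,1,3,1,1],
  [1,0,1,0,2,0,5,1,3,1,5,1,4,2,3,1,1],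
  [3,0,1,2,1,0,2,1,5,2,5,1,2,3,1,4,2,1,3,1,1],
  [1,5,1,0,2,0,0,3,2,5,3,4,2,1,4,3,1,2,2,1,1],
  [0,2,3,1,0,4,2,5,5,1,1,3,4,2,2,1,1,2,1,1],
  [3,5,3,0,2,0,0,3,2,5,5,4,3,2,4,1,3],
  [0,0,1,3,2,5,3,4,2,2,4,1,1,3,2],
  [5,3,1,2,0,3,5,1,2,1,5,1,2,1,4,1,2,1,3,1,1],
  [2,2,1,2,0,2,4,5,4,2,5,2,3,4,3,2,1,2,1],
  [2,4,0,2,0,0,2,3,5,2,5,1,2,1,4,3,1,1,2,1],
  [1,0,0,2,3,0,1,1,5,2,1,3,4,1,2,2,1,1,3],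
  [5,3,2,1,0,5,1,4,2,5,3,2,1,2,4,1,3,1],
  [3,5,3,0,2,0,0,1,5,3,2,5,4,3,2,1,4,3,2,2,1],
  [0,3,4,2,1,0,3,4,5,2,5,2,2,1,4,3,2,1,2,3],
  [0,0,5,2,1,1,5,4,1,4,2,4,2,1,3,1,2,1],
  [0,3,4,2,1,0,3,2,5,5,1,1,4,2,4,2,2,3,1,1],
  [0,5,5,1,2,0,2,1,2,5,2,5,4,3,1,2,4,1,2,2,1,2],
  [2,0,2,0,0,1,4,2,5,1,4,2,1,4,2,2,1,1,3,1],
  [3,5,3,0,2,0,0,1,4,5,2,5,3,1,4,2,4,1,2,2,3,2],
  [1,0,0,2,3,0,4,5,4,2,1,5,1,4,1,2,1,4,1,3,1,1,2,1,1],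
  [2,2,1,0,2,2,5,5,2,1,3,4,3,2,1,1,2,1],
  [1,5,1,0,2,0,0,3,1,5,4,2,5,4,3,1,2,4,3,2,3,1,2,1],
  [3,0,1,2,1,0,5,3,4,1,2,5,3,2,2,1,4,2,1,2,3],
  [5,3,1,2,0,5,2,1,5,4,3,1,1,4,2,2,3,2,1,1],
  [2,0,0,2,1,0,1,2,5,2,5,3,4,2,1,4,3,2,1,2,3,1,1],
  [2,0,0,2,1,0,1,2,5,2,5,4,1,2,4,1,2,3,1,2,1],
  [2,5,4,2,0,4,2,5,5,3,1,1,4,2,1,1],
  [3,4,2,0,0,2,5,4,2,5,4,2,2,4,1,3,2,1,1,2,1],
  [0,5,5,1,2,0,4,5,5,4,3,1,1,4,3,2,1,3],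
  [3,0,1,2,1,0,4,5,1,2,5,4,2,2,4,1,1,3,1,1],
  [5,2,4,3,0,5,1,2,3,5,3,4,3,4,1,2,1,1,2,1],
  [1,4,2,4,2,5,2,1,1,2,1,4,2,3,2],
  [5,3,2,1,0,2,4,5,4,2,5,4,1,2,4,2,2,1,2,2,1],
  [5,3,2,1,0,2,4,2,2,1,5,4,3,4,2,4,2,1,3,1,2],
  [0,0,5,3,4,5,2,5,3,4,3,4,3],
  [1,0,0,2,0,0,2,3,5,2,5,4,2,1,1,4,3,1,2,3,1],
  [2,2,1,0,1,3,2,5,4,2,3,1,4,3,2,3],
  [0,2,3,1,0,5,1,2,5,1,5,3,4,1,2,4,1,1,3,1,1],
  [0,0,2,0,3,1,5,3,2,2,1,4,1,3,2,1,2],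
  [5,3,1,2,0,2,1,3,1,5,4,1,2,3,1,4,3,1,3,2,1,1],
  [2,0,0,2,1,0,5,2,5,5,4,1,2,3,1,4,3,2,1,2,3],
  [5,3,1,2,0,5,2,2,5,2,3,1,1,4,3,2,1,3],
  [2,0,0,2,1,0,5,2,5,5,2,4,2,1,2,4,1,3,1,1,2],
  [2,2,1,0,5,1,3,1,5,4,3,4,1,1,3,1,2,1],
  [4,2,0,0,0,1,5,5,2,5,4,1,2,3,4,1,2,2,3,2,1],
  [0,3,4,2,1,0,2,5,1,3,2,5,1,3,4,1,2,1,1,2],
  [1,0,0,2,3,0,5,4,5,1,5,2,4,1,4,2,4,3,2,1,1,2,1,1],
  [1,0,0,2,0,0,1,2,5,4,3,4,1,2,2,1,2,1],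
  [2,4,2,1,0,3,2,5,5,1,2,3,1,4,1,2,2,3,2,1],
  [0,2,3,1,0,5,1,2,5,4,3,1,2,4,3,2,1,3,2],
  [5,2,0,0,0,2,5,2,2,1,5,1,3,2,1,4,2,1,2,2],
  [3,0,2,0,1,4,5,2,5,2,2,3,4,3,2,1,1,2,1],
  [1,0,1,0,2,0,4,3,5,3,2,3,1,1,4,1,1,3],
  [4,2,0,0,0,4,5,3,5,2,3,1,4,2,3,1],
  [0,3,4,2,1,0,4,2,2,5,4,1,1,3,4,1,3,2,1,2],
  [1,0,0,2,3,0,4,2,5,2,2,5,4,3,2,2,1,4,1,2,3,1,2,1],
  [0,3,4,2,1,0,3,4,3,5,4,3,2,4,1,2,2,1,2,1],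
  [5,2,0,0,0,5,4,2,5,2,4,3,2,4,1,2,2,1,1,3],
  [0,0,2,4,5,5,3,2,4,1,2,3],
  [4,2,0,0,0,1,4,2,5,3,1,2,3,4,2,2,3,2,1],
  [4,2,0,0,0,5,2,1,5,2,3,2,4,2,1,3,2],
  [0,0,4,1,2,5,2,5,2,1,1,2,1,4,1,3,1],
  [5,3,1,2,0,4,2,1,1,5,1,3,2,4,1,2,2,1,1],
  [2,5,4,2,0,3,4,5,2,5,4,1,2,1,4,3,2,1,1],
  [2,2,1,0,2,5,4,2,5,3,4,2,4,2,1,1,2,1],
  [4,2,0,0,0,1,5,2,5,1,4,3,1,1,4,2,2,1,1,3,1],
  [5,2,0,0,0,2,4,5,5,2,4,2,1,1,4,1,1,3,1,2,1],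
  [5,2,4,3,0,4,2,1,5,4,2,3,1,4,1,1,2,1,1],
  [5,2,0,0,0,2,1,5,1,4,3,1,2,4,3,2,1,1,2,1,1],
  [4,3,0,3,4,5,2,5,3,1,4,2,3,1],
  [4,3,0,2,4,5,4,2,5,3,4,2,1,4,1,3,2,1,1],
  [1,2,5,2,5,2,4,2,1,4,1,3,2,1,2,2],
  [1,2,1,1,5,3,4,2,1,4,2,1,1,3],
  [5,1,2,3,5,2,1,3,4,1,3,2,1,1,2,1,1],
  [2,1,5,1,2,4,2,4,1,1,2,1],
  [5,2,4,3,0,4,2,5,1,5,1,1,4,3,1,1,2],
  [4,2,5,2,2,5,2,3,1,4,2,2,1,1,3,1,1],
  [2,5,2,1,1,5,1,1,3,2,4,2,3,1],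
  [4,3,0,5,5,2,5,4,2,1,4,2,1,2,3,1,1],
  [5,2,0,0,0,2,4,2,2,1,5,2,1,2,4,3,1,2,2],
  [5,2,4,3,0,2,3,5,2,5,1,4,2,1,4,1,1,3,1,2,1],
  [5,2,4,3,0,3,2,1,3,1,5,4,3,4,2,4,2,2,1,2,2,1,1],
  [1,4,2,1,5,3,2,3,1,1,4,2,1,3,1],
  [5,2,4,3,0,5,1,1,2,5,4,1,1,3,2,4,2,1,1,2,1,1],
  [2,5,1,3,2,5,1,4,3,1,1,4,2,1,3,1],
  [4,5,3,2,5,2,2,3,4,1,2,1,3,1],
  [4,3,0,4,1,3,2,5,2,4,1,2,4,2,3,2,1],
  [4,2,0,0,0,4,1,2,5,2,5,4,2,2,4,2,1,3,1,1],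
  [4,3,0,5,4,2,1,5,1,3,1,4,2,1,3,1,1],
  [4,3,0,5,2,1,5,1,3,2,1,4,2,2,3,2],
  [5,2,0,0,0,1,2,1,1,5,4,2,4,3,4,3,2,2,1,1],
  [4,3,0,5,2,1,1,5,2,4,1,3,4,3,2,2,1],
  [5,2,4,3,0,4,5,4,2,1,5,4,3,2,2,1,4,1,2,2],
  [5,3,2,1,0,4,1,2,5,2,5,1,4,2,1,4,1,2,1,3,2,1],
  [3,0,2,0,4,2,1,5,5,4,3,1,2,4,1,3,2,1,2,2,1],
  [0,3,4,2,1,0,4,5,4,2,5,1,4,2,4,3,1,1],
  [2,0,0,2,1,0,5,1,4,2,1,5,4,1,1,3,2,4,2],
  [2,4,2,1,0,4,5,2,5,4,2,4,3,4,1,2,1,1,2,1],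
  [1,0,1,0,2,0,2,4,2,5,3,1,2,1,4,1,2,1,1],
  [2,2,1,0,2,5,5,4,2,3,1,4,3,1,1],
  [4,2,0,0,0,5,4,2,3,5,4,2,1,4,1,2,2,1,2,1,1],
  [5,1,2,1,0,1,3,2,5,2,4,2,1,1,4,1,2,2,1,1,3,1],
  [5,1,2,1,0,4,2,4,2,5,2,4,3,2,4,2,1,2],
  [3,5,2,1,5,1,1,2,1,4,2,1,1,2,1],
  [5,2,0,0,0,5,3,4,5,2,5,4,2,1,4,1,2,1,1,2,1],
  [4,3,0,4,2,5,5,2,4,1,4,2,4,2,2,1,1,2],
  [2,2,1,0,4,2,5,5,2,4,2,1,1,4,2,1,3,2],
  [4,2,0,0,0,5,1,2,5,1,5,1,2,3,1,4,1,2,2,1,2,1,1],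
  [4,3,0,5,3,4,5,2,5,2,4,2,1,2,4,3,2,2,1,1],
  [5,2,4,3,0,1,2,5,3,4,2,4,2,3,2,2],
  [2,2,1,0,4,5,5,3,1,3,4,2,2,1,2,1],
  [2,4,2,1,0,5,2,2,5,3,2,1,1,4,1,3,2,1,2],
  [5,1,2,1,0,2,5,2,5,1,2,1,3,4,2,3,2,1],
  [5,1,2,1,0,4,5,1,5,2,2,1,1,4,1,2,1,3,1],
  [3,5,3,0,2,0,0,5,4,2,2,5,2,1,3,2,1,4,3,1,2,2,3],
  [1,5,1,0,2,0,0,5,1,4,2,1,5,4,3,2,1,4,3,2,3,1,2,1,1],
  [3,0,1,2,1,0,4,2,5,1,5,1,4,2,2,4,3,2,1,2,2,1,1],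
  [3,5,3,0,2,0,0,2,5,5,2,2,4,2,4,1,1,3,1,2],
  [0,3,4,2,1,0,1,2,1,1,5,1,4,3,1,1,4,3],
  [1,0,0,2,3,0,1,2,5,2,2,1,5,1,1,4,2,4,1,3,2,1,2],
  [5,0,2,0,0,3,1,5,4,3,4,2,4,3,2,3,1,1],
  [5,0,0,0,2,0,1,3,2,5,2,4,3,2,4,2,3,1,2,1,1],
  [0,2,2,5,0,3,2,5,5,4,1,2,3,1,4,1,1,2],
  [1,0,0,2,3,0,5,2,2,1,5,2,1,4,2,4,3,1,2,2,1,1],
  [4,2,2,0,2,0,0,1,2,5,5,1,2,4,3,2,1,2],
  [0,3,4,2,1,0,2,5,1,3,2,5,4,2,1,2,4,3,2,1,2,2,1,1],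
  [5,0,0,0,2,0,2,5,2,5,2,2,3,4,3,2,2,1,1],
  [1,0,1,0,2,0,1,1,4,2,5,2,4,3,4,1,3,1,1,2],
  [0,2,3,1,0,4,2,3,5,4,2,3,1,4,2,2,1,1],
  [4,3,0,2,5,1,2,1,3,4,1,3,1,1,2,1,1],
  [5,3,2,1,0,5,2,3,5,2,2,3,4,2,1,3,2,1,2,1],
  [3,5,3,0,2,0,0,3,1,5,1,4,2,1,1,3,1],
  [3,0,1,2,1,0,1,4,1,5,5,4,3,4,2,4,2,2,1,2,2,1,1],
  [4,2,0,0,0,1,2,5,1,3,4,1,3,1,1,2],
  [2,0,2,0,0,2,4,5,3,2,5,2,1,1,2,1,4,2,2,3],
  [0,0,5,1,4,2,5,4,2,2,1,2,2,1],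
  [5,3,1,2,0,1,2,5,1,5,1,1,2,1,4,3,1,2,2,1],
  [2,4,0,2,0,0,5,4,2,2,5,4,2,2,1,4,3,1,2,2,1,1],
  [1,0,0,2,3,0,4,2,5,2,1,4,2,4,3,1,2,2,3,1],
  [4,2,2,0,2,0,0,2,2,5,2,2,5,1,4,3,1,1,4,2,1,2,3,1],
  [0,2,3,1,0,5,2,5,3,4,1,2,4,2,3],
  [2,0,0,2,1,0,4,5,1,2,5,3,1,1,4,1,3],
  [0,0,4,1,5,5,2,2,1,4,2,1,1],
  [5,2,0,0,0,3,1,5,4,2,5,3,2,1,4,2,1,3,2,1],
  [0,0,4,3,2,5,5,2,4,2,1,4,3,1,3,2,1],
  [4,2,0,0,0,4,1,2,1,5,3,4,1,2,4,1,3,2,1,2,2,1],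
  [5,2,4,3,0,1,1,2,5,5,3,4,2,1,4,1,2,3],
  [5,3,1,2,0,3,1,2,1,5,4,3,1,1,4,2,1,1,3,2,1],
  [4,3,0,1,4,5,2,5,3,2,1,4,1,2,3,1],
  [2,5,4,2,0,1,5,3,2,5,4,3,1,2,4,1,3,2,1,2],
  [4,2,0,0,0,1,1,5,2,5,3,2,1,4,3,1,2,2,1],
  [3,0,2,0,1,5,2,3,5,2,4,3,1,2,4,3,2,3,1,2,1,1],
  [0,2,3,1,0,1,5,3,1,4,1,1,2,1],
  [1,0,1,0,2,0,5,2,5,3,2,1,4,3,1,2,3,1,1],
  [5,3,1,2,0,5,5,4,2,2,5,2,3,2,4,2,1,2,1,3,2,1],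
  [5,0,0,0,2,0,5,1,2,3,5,1,2,4,2,1,2,1],
  [5,1,2,1,0,4,3,2,5,5,2,4,3,2,1,2,2,1]]

/-- The action of the generators. -/
def cosetNext : List (List (ℕ × ℕ)) := [[(1,0),(2,0),(3,0),(0,115)],
  [(4,0),(5,0),(6,0),(7,0)],
  [(8,0),(9,0),(10,0),(11,0)],
  [(12,0),(13,0),(14,0),(15,0)],
  [(16,0),(17,0),(18,0),(19,0)],
  [(20,0),(21,0),(22,0),(23,0)],
  [(24,0),(25,0),(26,0),(27,0)],
  [(28,0),(29,0),(12,48),(1,0)],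
  [(30,0),(31,0),(32,0),(33,0)],
  [(34,0),(35,0),(36,0),(36,51)],
  [(37,0),(38,0),(39,0),(40,0)],
  [(41,0),(42,0),(43,0),(2,0)],
  [(44,0),(45,0),(46,0),(47,0)],
  [(48,0),(49,0),(50,0),(42,51)],
  [(51,0),(52,0),(15,115),(14,115)],
  [(53,0),(54,0),(0,115),(3,0)],
  [(0,0),(55,0),(56,0),(57,0)],
  [(58,0),(59,0),(30,80),(17,96)],
  [(18,118),(60,0),(61,0),(62,0)],
  [(19,62),(63,0),(44,115),(4,0)],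
  [(64,0),(65,0),(66,0),(67,0)],
  [(68,0),(1,98),(69,0),(69,124)],
  [(70,0),(71,0),(72,0),(73,0)],
  [(74,0),(75,0),(76,0),(5,0)],
  [(77,0),(69,86),(70,99),(74,97)],
  [(78,0),(79,0),(80,0),(75,124)],
  [(81,0),(82,0),(47,48),(46,48)],
  [(83,0),(84,0),(7,0),(6,0)],
  [(35,70),(85,0),(86,0),(87,0)],
  [(88,0),(89,0),(90,0),(91,0)],
  [(92,0),(93,0),(94,0),(95,0)],
  [(96,0),(97,0),(98,0),(98,98)],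
  [(99,0),(100,0),(33,78),(32,78)],
  [(101,0),(102,0),(103,0),(8,0)],
  [(104,0),(105,0),(106,0),(107,0)],
  [(108,0),(109,0),(110,0),(111,0)],
  [(112,0),(113,0),(9,78),(9,51)],
  [(11,109),(114,0),(115,0),(116,0)],
  [(117,0),(118,0),(119,0),(120,0)],
  [(97,11),(121,0),(122,0),(123,0)],
  [(124,0),(125,0),(11,0),(10,0)],
  [(10,109),(126,0),(127,0),(128,0)],
  [(129,0),(66,21),(13,116),(13,51)],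
  [(103,116),(130,0),(123,0),(122,0)],
  [(131,0),(132,0),(133,0),(134,0)],
  [(45,93),(135,0),(59,82),(136,0)],
  [(29,97),(137,0),(27,48),(26,48)],
  [(138,0),(139,0),(1,48),(12,0)],
  [(13,64),(43,100),(140,0),(140,75)],
  [(26,27),(120,78),(130,39),(141,0)],
  [(142,0),(111,82),(112,77),(112,81)],
  [(62,116),(143,0),(144,0),(85,32)],
  [(33,0),(36,27),(145,0),(146,0)],
  [(61,116),(147,0),(148,0),(149,0)],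
  [(140,95),(141,82),(150,0),(151,0)],
  [(152,0),(153,0),(64,103),(55,78)],
  [(137,17),(154,0),(155,0),(156,0)],
  [(157,0),(158,0),(131,48),(16,0)],
  [(43,57),(159,0),(160,0),(161,0)],
  [(162,0),(28,82),(60,86),(60,26)],
  [(163,0),(76,106),(136,58),(59,85)],
  [(100,29),(86,61),(134,115),(133,115)],
  [(164,0),(165,0),(19,0),(18,0)],
  [(134,103),(166,0),(83,26),(81,85)],
  [(167,0),(168,0),(124,21),(97,81)],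
  [(50,106),(40,119),(169,0),(65,66)],
  [(170,0),(11,43),(52,21),(171,0)],
  [(82,72),(172,0),(173,0),(20,0)],
  [(174,0),(175,0),(176,0),(177,0)],
  [(132,37),(90,2),(178,0),(21,124)],
  [(23,75),(6,72),(179,0),(180,0)],
  [(119,96),(181,0),(182,0),(183,0)],
  [(40,42),(184,0),(185,0),(93,95)],
  [(39,64),(58,74),(23,0),(22,0)],
  [(22,75),(186,0),(28,97),(24,99)],
  [(187,0),(127,92),(25,116),(25,124)],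
  [(173,116),(188,0),(93,95),(185,0)],
  [(189,0),(48,59),(190,0),(191,0)],
  [(25,4),(192,0),(143,20),(166,111)],
  [(193,0),(94,27),(188,119),(194,0)],
  [(195,0),(4,105),(196,0),(196,119)],
  [(156,116),(197,0),(198,0),(63,26)],
  [(67,0),(163,125),(116,26),(115,26)],
  [(155,116),(199,0),(147,110),(200,0)],
  [(136,79),(201,0),(202,0),(186,8)],
  [(179,115),(80,115),(53,24),(51,3)],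
  [(161,40),(203,0),(180,97),(179,97)],
  [(160,114),(23,86),(24,116),(28,0)],
  [(204,0),(169,55),(111,87),(110,87)],
  [(205,0),(99,92),(206,0),(206,119)],
  [(207,0),(208,0),(71,97),(209,0)],
  [(210,0),(136,49),(138,97),(29,0)],
  [(2,0),(18,125),(210,84),(207,76)],
  [(182,126),(211,0),(73,27),(72,27)],
  [(73,26),(212,0),(95,72),(94,72)],
  [(72,85),(47,101),(17,57),(30,0)],
  [(213,0),(16,106),(214,0),(214,11)],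
  [(94,86),(156,20),(55,75),(64,101)],
  [(153,125),(215,0),(31,72),(31,98)],
  [(216,0),(81,81),(101,30),(99,25)],
  [(15,29),(96,83),(217,0),(158,39)],
  [(114,31),(78,32),(167,40),(152,67)],
  [(214,16),(64,94),(218,0),(218,2)],
  [(17,47),(131,4),(8,78),(103,78)],
  [(219,0),(220,0),(104,87),(104,42)],
  [(221,0),(222,0),(223,0),(105,121)],
  [(224,0),(177,6),(225,0),(225,75)],
  [(226,0),(227,0),(34,75),(34,0)],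
  [(7,118),(228,0),(189,86),(108,78)],
  [(47,95),(229,0),(204,88),(109,106)],
  [(128,51),(230,0),(231,0),(88,107)],
  [(127,39),(232,0),(77,118),(35,0)],
  [(36,42),(204,25),(42,81),(50,101)],
  [(233,0),(234,0),(38,39),(235,0)],
  [(52,76),(206,113),(207,18),(210,16)],
  [(217,98),(236,0),(170,64),(82,85)],
  [(158,13),(24,93),(41,116),(37,0)],
  [(237,0),(74,37),(238,0),(135,19)],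
  [(239,0),(145,48),(224,57),(226,47)],
  [(234,70),(15,27),(232,51),(240,0)],
  [(241,0),(242,0),(235,39),(38,0)],
  [(107,0),(173,21),(242,78),(121,115)],
  [(188,123),(146,41),(2,0),(43,0)],
  [(194,113),(243,0),(40,0),(39,0)],
  [(95,109),(244,0),(97,16),(124,82)],
  [(144,78),(219,112),(108,118),(189,48)],
  [(59,118),(194,41),(245,0),(221,32)],
  [(57,9),(246,0),(82,26),(170,42)],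
  [(56,59),(247,0),(37,116),(41,0)],
  [(248,0),(249,0),(250,0),(250,73)],
  [(201,107),(224,101),(141,41),(130,48)],
  [(3,0),(214,86),(193,7),(251,0)],
  [(69,46),(22,78),(252,0),(197,98)],
  [(63,94),(12,31),(62,115),(61,115)],
  [(198,52),(253,0),(4,115),(44,0)],
  [(145,7),(254,0),(255,0),(117,84)],
  [(256,0),(157,57),(45,57),(45,0)],
  [(110,84),(257,0),(258,0),(259,0)],
  [(231,118),(255,86),(183,0),(182,0)],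
  [(166,59),(149,10),(165,101),(260,0)],
  [(225,23),(171,121),(48,82),(48,75)],
  [(254,9),(88,119),(261,0),(49,0)],
  [(262,0),(263,0),(239,48),(239,27)],
  [(222,28),(216,117),(203,80),(203,96)],
  [(180,99),(183,124),(254,86),(201,119)],
  [(238,41),(110,105),(20,28),(173,28)],
  [(135,101),(151,27),(171,28),(52,0)],
  [(200,97),(264,0),(265,0),(208,119)],
  [(209,24),(266,0),(201,124),(254,96)],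
  [(71,115),(152,126),(51,116),(53,0)],
  [(229,54),(235,39),(219,108),(219,66)],
  [(267,0),(122,48),(54,75),(54,0)],
  [(76,47),(245,28),(99,34),(101,111)],
  [(268,0),(32,67),(154,82),(154,16)],
  [(154,19),(217,46),(153,62),(153,18)],
  [(261,95),(33,111),(251,48),(193,5)],
  [(49,27),(269,0),(57,0),(56,0)],
  [(111,70),(270,0),(137,47),(157,2)],
  [(259,107),(218,46),(164,16),(100,39)],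
  [(89,98),(73,122),(186,14),(202,13)],
  [(87,102),(91,122),(114,66),(216,101)],
  [(86,93),(196,102),(92,47),(58,0)],
  [(271,0),(272,0),(273,0),(274,0)],
  [(60,42),(53,94),(89,71),(275,0)],
  [(14,116),(124,112),(237,98),(215,46)],
  [(21,69),(265,106),(260,61),(165,86)],
  [(276,0),(170,107),(78,69),(78,67)],
  [(5,0),(128,70),(152,24),(167,72)],
  [(141,7),(277,0),(215,103),(237,8)],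
  [(42,23),(119,124),(65,73),(169,100)],
  [(66,72),(238,44),(128,42),(127,42)],
  [(32,107),(261,94),(67,0),(66,0)],
  [(172,84),(240,36),(229,12),(267,18)],
  [(55,57),(189,42),(146,21),(145,21)],
  [(165,125),(278,0),(279,0),(174,63)],
  [(84,108),(129,98),(271,85),(175,11)],
  [(280,0),(250,25),(276,52),(222,69)],
  [(184,25),(281,0),(282,0),(68,0)],
  [(282,119),(19,106),(257,43),(257,48)],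
  [(113,64),(202,109),(87,99),(86,99)],
  [(228,45),(161,79),(74,116),(70,0)],
  [(273,105),(258,115),(280,47),(184,99)],
  [(93,91),(115,38),(29,99),(138,0)],
  [(185,7),(283,0),(209,99),(71,0)],
  [(177,0),(37,90),(212,27),(181,97)],
  [(183,32),(259,49),(5,0),(76,0)],
  [(252,106),(182,72),(126,63),(84,49)],
  [(223,124),(284,0),(285,0),(286,0)],
  [(122,13),(287,0),(117,78),(255,49)],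
  [(6,0),(112,94),(233,71),(125,48)],
  [(270,103),(67,102),(88,24),(231,70)],
  [(79,117),(150,104),(35,70),(77,0)],
  [(190,15),(148,64),(199,19),(288,0)],
  [(246,16),(56,10),(156,53),(155,53)],
  [(123,93),(134,78),(270,96),(79,0)],
  [(105,121),(289,0),(227,91),(290,0)],
  [(257,38),(83,65),(75,116),(80,119)],
  [(220,111),(7,5),(132,93),(132,98)],
  [(133,70),(72,118),(208,106),(265,1)],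
  [(235,65),(291,0),(288,33),(199,96)],
  [(147,24),(41,77),(81,116),(83,0)],
  [(208,12),(27,2),(85,86),(144,119)],
  [(197,126),(209,99),(253,118),(159,20)],
  [(247,63),(138,24),(166,62),(143,96)],
  [(46,99),(39,32),(234,32),(241,12)],
  [(263,37),(292,0),(274,65),(273,65)],
  [(206,104),(198,94),(275,125),(89,119)],
  [(91,75),(101,16),(58,106),(92,31)],
  [(293,0),(294,0),(200,105),(147,119)],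
  [(120,43),(62,52),(91,0),(90,0)],
  [(90,75),(260,28),(216,36),(114,18)],
  [(286,27),(46,34),(294,59),(266,76)],
  [(274,24),(70,46),(287,114),(264,84)],
  [(295,0),(296,0),(297,0),(297,109)],
  [(102,77),(164,120),(96,115),(96,11)],
  [(199,99),(251,104),(100,2),(164,59)],
  [(171,87),(51,87),(161,81),(160,81)],
  [(258,28),(237,41),(168,114),(293,112)],
  [(298,0),(57,15),(102,25),(102,2)],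
  [(9,0),(241,56),(151,66),(150,66)],
  [(249,32),(223,95),(290,90),(227,54)],
  [(80,121),(288,25),(84,20),(126,3)],
  [(296,94),(299,0),(177,125),(176,125)],
  [(245,127),(142,121),(105,124),(223,4)],
  [(300,0),(233,88),(243,110),(243,8)],
  [(301,0),(271,76),(107,75),(106,75)],
  [(302,0),(14,103),(118,103),(118,47)],
  [(181,88),(285,7),(303,0),(220,36)],
  [(125,63),(140,20),(240,68),(232,52)],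
  [(304,0),(0,0),(230,105),(230,95)],
  [(230,49),(10,78),(267,103),(229,27)],
  [(109,104),(3,95),(191,118),(190,118)],
  [(115,106),(50,106),(113,116),(228,62)],
  [(85,36),(77,16),(125,127),(233,78)],
  [(149,106),(226,49),(241,2),(234,105)],
  [(255,12),(191,86),(228,118),(113,0)],
  [(143,24),(117,1),(139,93),(236,30)],
  [(288,90),(305,0),(293,52),(168,49)],
  [(146,90),(178,7),(79,107),(270,50)],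
  [(118,120),(306,0),(129,106),(142,95)],
  [(116,27),(123,82),(120,0),(119,0)],
  [(148,2),(20,69),(109,92),(204,1)],
  [(106,105),(231,41),(121,116),(242,105)],
  [(250,73),(190,118),(226,43),(224,49)],
  [(307,0),(103,86),(305,71),(305,111)],
  [(75,14),(95,56),(159,3),(253,58)],
  [(191,102),(275,40),(192,32),(246,25)],
  [(203,47),(144,113),(197,103),(252,61)],
  [(169,29),(268,45),(262,124),(248,64)],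
  [(202,20),(303,103),(308,0),(249,63)],
  [(243,120),(286,35),(142,82),(129,73)],
  [(192,13),(98,9),(16,48),(131,0)],
  [(303,81),(160,65),(247,71),(247,40)],
  [(275,115),(200,38),(221,75),(245,114)],
  [(265,117),(280,72),(149,96),(148,96)],
  [(215,121),(309,0),(194,48),(188,8)],
  [(175,69),(279,47),(310,0),(311,0)],
  [(196,66),(30,71),(21,10),(178,48)],
  [(232,88),(44,106),(259,98),(258,98)],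
  [(240,91),(221,92),(157,17),(137,0)],
  [(178,14),(185,115),(236,121),(139,0)],
  [(27,95),(267,57),(49,115),(261,115)],
  [(65,106),(312,0),(248,64),(262,124)],
  [(159,18),(282,97),(284,25),(263,60)],
  [(306,24),(26,2),(181,2),(212,19)],
  [(168,46),(179,24),(63,70),(198,12)],
  [(290,99),(207,111),(309,86),(211,31)],
  [(312,46),(108,114),(172,23),(172,16)],
  [(272,68),(262,124),(307,13),(307,63)],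
  [(218,84),(293,22),(269,56),(269,82)],
  [(251,76),(252,52),(135,98),(238,126)],
  [(126,70),(195,79),(175,96),(271,64)],
  [(98,8),(256,31),(272,20),(272,51)],
  [(294,27),(310,12),(278,34),(205,117)],
  [(266,114),(313,0),(256,78),(162,0)],
  [(278,125),(87,53),(163,121),(163,0)],
  [(292,34),(308,112),(281,32),(306,107)],
  [(297,114),(155,99),(277,59),(277,100)],
  [(284,81),(295,77),(311,13),(310,13)],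
  [(260,72),(213,2),(174,119),(279,121)],
  [(176,25),(133,40),(291,22),(283,25)],
  [(264,69),(106,67),(68,84),(282,84)],
  [(279,4),(104,6),(306,3),(281,19)],
  [(311,96),(167,34),(184,116),(280,25)],
  [(253,104),(225,98),(263,74),(284,64)],
  [(283,74),(107,114),(220,14),(303,25)],
  [(291,31),(176,95),(195,119),(187,0)],
  [(281,58),(92,93),(283,97),(291,94)],
  [(38,127),(210,22),(246,49),(192,0)],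
  [(151,102),(187,105),(299,83),(289,39)],
  [(212,126),(239,7),(187,119),(195,0)],
  [(310,82),(180,7),(264,117),(287,110)],
  [(139,60),(298,73),(296,104),(292,63)],
  [(130,115),(8,59),(158,120),(217,55)],
  [(227,17),(116,85),(266,124),(294,98)],
  [(31,0),(205,65),(295,10),(295,124)],
  [(236,102),(162,70),(292,93),(296,121)],
  [(244,33),(273,58),(213,2),(213,109)],
  [(314,0),(174,70),(313,102),(313,26)],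
  [(150,42),(276,106),(289,30),(299,11)],
  [(242,105),(307,68),(304,103),(312,96)],
  [(54,120),(68,45),(301,28),(301,64)],
  [(121,0),(300,7),(312,59),(304,122)],
  [(308,25),(301,123),(286,25),(285,25)],
  [(299,120),(248,102),(300,122),(302,122)],
  [(313,80),(193,50),(244,108),(244,67)],
  [(287,24),(290,9),(222,22),(276,87)],
  [(277,41),(302,123),(268,15),(268,63)],
  [(186,32),(34,23),(249,124),(308,122)],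
  [(285,3),(61,118),(211,81),(309,2)],
  [(211,77),(297,83),(205,24),(278,20)],
  [(309,83),(274,46),(162,78),(256,0)],
  [(289,19),(314,96),(302,96),(300,96)],
  [(305,7),(311,45),(298,54),(298,85)],
  [(269,19),(304,35),(314,102),(314,122)]]

/-- The orbits of the Sylow subgroup. -/
def orbLabel : ℕ := 0xc10030400c040706028100404814060900828120801828060a05024060301828040a018380e020380c060a0781c120206024020d0180c1e030480c14030180c0c020501418030600412030180c04070700406080180c0a090200c0a0103828040c0100c100205020180102004100c01824020904004000c0180c080706000180e0480c06070280c060701808060d018280609018040806020080a0701804000c0381c0a05000200402040140c020280c040a0300c1c020103006010080c180c010141000008180204020100e020081c0e010200c020c018181a010682406010101004050300408020280404020302402060280c0c010200c04020180c180303028100801008020b0180c06030500806010180406030002410010100c0c04030080206030041007018140806000140801018080200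

/-- Witnesses. -/
def cosetWit : List (ℕ × ℕ) := [(0,0),(0,2),(0,1),(0,0),(0,1),(0,0),(0,0),(0,2),(0,0),(0,0),(0,0),(0,1),(0,0),(0,0),(0,0),(0,0),(0,1),(0,0),(0,0),(0,1),(0,0),(0,0),(0,1),(0,0),(0,0),(0,0),(0,2),(0,0),(0,1),(0,0),(0,0),(0,0),(1,0),(0,0),(0,0),(0,1),(0,0),(0,0),(0,0),(0,1),(0,0),(0,0),(0,0),(0,0),(0,0),(0,0),(0,0),(0,0),(0,0),(0,0),(0,0),(0,0),(0,0),(0,0),(0,1),(0,0),(0,1),(0,1),(0,0),(0,1),(0,0),(0,1),(0,0),(0,0),(0,0),(0,0),(0,1),(0,0),(0,0),(0,0),(0,1),(0,0),(0,0),(0,1),(0,0),(0,0),(0,1),(0,1),(0,0),(0,0),(0,0),(0,1),(0,0),(0,0),(0,0),(0,0),(0,0),(0,1),(0,0),(0,0),(0,1),(0,0),(0,1),(0,1),(0,0),(0,0),(0,0),(0,0),(0,1),(0,1),(0,0),(0,1),(0,0),(0,0),(0,1),(0,0),(0,0),(0,0),(1,0),(0,0),(0,0),(0,1),(0,0),(0,0),(0,0),(0,0),(0,0),(0,0),(0,1),(0,1),(0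,0),(0,0),(0,0),(0,1),(0,0),(0,0),(0,0),(0,2),(0,0),(0,0),(0,0),(0,0),(0,0),(0,1),(0,0),(0,0),(0,0),(0,0),(0,1),(0,1),(0,0),(0,0),(0,0),(0,0),(0,0),(0,1),(0,0),(0,0),(0,0),(0,0),(0,1),(0,1),(0,0),(0,0),(0,0),(0,1),(0,1),(0,1),(0,0),(0,0),(0,1),(0,0),(0,1),(0,0),(0,0),(0,0),(0,1),(0,1),(0,0),(0,0),(0,2),(0,1),(0,0),(0,1),(0,0),(0,1),(0,0),(0,0),(0,0),(0,0),(0,1),(0,0),(0,1),(0,0),(0,0),(0,1),(0,1),(0,0),(0,0),(0,0),(0,1),(0,1),(0,1),(0,1),(0,0),(0,0),(0,0),(0,0),(0,0),(0,0),(0,0),(0,0),(0,0),(0,0),(0,0),(0,0),(0,0),(0,1),(0,0),(0,1),(0,0),(0,1),(0,0),(0,1),(0,0),(0,0),(0,1),(0,0),(0,0),(0,0),(0,0),(0,0),(0,0),(0,1),(0,1),(0,0),(0,1),(0,0),(0,0),(0,0),(0,0),(0,1),(0,0),(0,0),(0,0),(0,0),(0,0),(0,1),(0,0),(0,0),(0,1),(0,0),(0,0),(0,0),(0,0),(0,1),(0,0),(0,0),(0,1),(0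,0),(0,0),(0,0),(0,0),(0,1),(0,0),(0,0),(0,0),(0,1),(0,1),(0,0),(0,1),(0,0),(0,1),(0,0),(0,1),(0,1),(0,0),(0,0),(0,0),(0,0),(0,0),(0,1),(0,0),(0,0),(0,1),(0,0),(0,1),(0,0),(0,0),(0,0),(0,0),(0,1),(0,0),(0,1),(0,1),(0,0),(0,0),(0,0),(0,1),(0,2),(0,0),(0,0),(1,0),(0,0),(0,0),(0,1),(0,1),(0,0),(0,0),(0,1),(0,0),(0,1),(0,0),(0,1),(0,0),(0,0),(0,1),(0,0),(0,1),(0,0),(0,1),(0,0),(0,0),(0,0),(0,0)]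

/-- The generators as products of involutions. -/
def invProducts : List (List ℕ) := [[100,119],[2],[47,72]]

end Cfsg.Agent.McL.Fus
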