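import Cfsg.Agent.GroupSub.Data
import Cfsg.Agent.LeechModel.SylowTable
import Cfsg.Agent.McL.Centralizer
import Cfsg.Agent.McL.FusionData

/-!
The two-fusion system of the group is simple.
-/

set_option autoImplicit false
set_option maxRecDepth 100000
set_option maxHeartbeats 0

namespace Cfsg.Agent.McL

open Cfsg Cfsg.Agent.Compute Cfsg.Agent.StemCert Cfsg.Agent.LeechModel Cfsg.Agent.GroupSub

/-- An element of the Sylow table. -/
noncomputable def sylEl (i : ℕ) : ↥Spor.McL := evalW gen (Out.sylEls.getD i [])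

/-- A generator of the Sylow subgroup. -/
noncomputable def sylGe (g : ℕ) : ↥Spor.McL := evalW gen (Out.sylGens.getD g [])

/-- The Sylow subgroup. -/
noncomputable def sylTwo : Subgroup ↥Spor.McL :=
  Subgroup.closure (sylGe '' {g | g < Out.sylGens.length})

theorem sylTwo_spec : (sylTwo : Set ↥Spor.McL) = Set.range (fun i : Fin Out.sylEls.length => sylEl i) ∧
    Function.Injective (fun i : Fin Out.sylEls.length => sylEl i) := by
  obtain ⟨⟨le, lg, -, -⟩, hlen, h0, hnd, hall⟩ := syl_ok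
  exact table_closure coded base_isBase le lg (by rw [hlen]; norm_num) h0 hnd
    (fun i hi => allBelow_eq_true.mp hall i (by rw [hlen] at hi; exact hi))

theorem mem_sylTwo {x : ↥Spor.McL} : x ∈ sylTwo ↔ ∃ i < 128, sylEl i = x := by
  rw [← SetLike.mem_coe, sylTwo_spec.1]
  have hlen : Out.sylEls.length = 128 := syl_ok.2.1
  constructor
  · rintro ⟨i, rfl⟩; exact ⟨i, hlen ▸ i.2, rfl⟩
  · rintro ⟨i, hi, rfl⟩; exact ⟨⟨i, hlen.symm ▸ hi⟩, rfl⟩

theorem card_sylTwo : Nat.card sylTwo = 2 ^ 7 := by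
  show Nat.card (sylTwo : Set ↥Spor.McL) = _
  rw [sylTwo_spec.1, Nat.card_range_of_injective sylTwo_spec.2, Nat.card_fin]
  exact syl_ok.2.1

/-- The words of the check. -/
def zWord : List ℕ := Out.sylEls.getD Fus.zIdx []

/-- A conjugate of a generator of the centraliser. -/
def cenWord (a : ℕ) : List ℕ := Fus.conjWord ++ (Out.cent0Gens.getD a [] ++ Fus.conjInv)

theorem fusion_words :
    lettersB 6 [zWord, Fus.conjWord, Fus.conjInv] = true ∧
    lettersB 6 Fus.cosetWords = true ∧ lettersB 6 Out.cent0Gens = true ∧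
    Fus.zIdx < 128 ∧
    eqOn 9 Model.codes Model.base (Fus.conjWord ++ Fus.conjInv) [] = true ∧
    eqOn 9 Model.codes Model.base (zWord ++ Fus.conjWord) (Fus.conjWord ++ Out.tWord) = true := by
  refine ⟨?_, ?_, ?_, ?_, ?_, ?_⟩ <;> decide +kernel

theorem centre_check : allBelow 128 (fun i => Nat.beq i 0 || Nat.beq i Fus.zIdx ||
      !(allBelow 3 (fun g => eqOn 9 Model.codes Model.base
        (Out.sylGens.getD g [] ++ Out.sylEls.getD i []) (Out.sylEls.getD i [] ++ Out.sylGens.getD g [])))) = true ∧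
    allBelow 3 (fun g => eqOn 9 Model.codes Model.base
      (Out.sylGens.getD g [] ++ zWord) (zWord ++ Out.sylGens.getD g [])) = true := by
  refine ⟨?_, ?_⟩ <;> decide +kernel

theorem label_check : allBelow 275 (fun p => allBelow 3 (fun g => Nat.beq
    (getField 9 Fus.orbLabel (appW 9 Model.codes (Out.sylGens.getD g []) p))
    (getField 9 Fus.orbLabel p))) = true := by decide +kernel

theorem coset_check : Fus.cosetWords.length = 315 ∧ Fus.cosetWords.getD 0 [] = [] ∧
    allBelow 315 (fun j => allBelow 4 (fun a =>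
      Nat.blt ((Fus.cosetNext.getD j []).getD a (0, 0)).1 315 &&
      Nat.blt ((Fus.cosetNext.getD j []).getD a (0, 0)).2 128 &&
      eqOn 9 Model.codes Model.base (cenWord a ++ Fus.cosetWords.getD j [])
        (Fus.cosetWords.getD ((Fus.cosetNext.getD j []).getD a (0, 0)).1 [] ++
          Out.sylEls.getD ((Fus.cosetNext.getD j []).getD a (0, 0)).2 []))) = true ∧
    allBelow 315 (fun j => Nat.beq j 0 || (Nat.blt (Fus.cosetWit.getD j (0, 0)).1 3 &&
      Nat.blt (Fus.cosetWit.getD j (0, 0)).2 275 &&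
      !(Nat.beq
        (getField 9 Fus.orbLabel (appW 9 Model.codes
          (Fus.cosetWords.getD j [] ++ Out.sylGens.getD (Fus.cosetWit.getD j (0, 0)).1 [])
          (Fus.cosetWit.getD j (0, 0)).2))
        (getField 9 Fus.orbLabel (appW 9 Model.codes (Fus.cosetWords.getD j [])
          (Fus.cosetWit.getD j (0, 0)).2))))) = true := by
  refine ⟨?_, ?_, ?_, ?_⟩ <;> decide +kernel

theorem inv_check : Fus.invProducts.length = 3 ∧ allBelow 3 (fun g =>
    allB (fun i => Nat.blt i 128 &&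
      eqOn 9 Model.codes Model.base (Out.sylEls.getD i [] ++ Out.sylEls.getD i []) [])
      (Fus.invProducts.getD g []) &&
    eqOn 9 Model.codes Model.base (Out.sylGens.getD g [])
      (Fus.invProducts.getD g [] |>.flatMap fun i => Out.sylEls.getD i [])) = true := by
  refine ⟨?_, ?_⟩ <;> decide +kernel

theorem letters_of {ls : List (List ℕ)} (h : lettersB 6 ls = true) (i : ℕ) :
    ∀ s ∈ ls.getD i [], s < 6 := by
  intro s hs
  by_cases hi : i < ls.length
  · rw [List.getD_eq_getElem _ _ hi] at hs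
    exact Nat.blt_eq.mp (allB_spec (allB_spec h _ (List.getElem_mem hi)) s hs)
  · rw [List.getD_eq_default _ _ (by omega)] at hs
    simp at hs

theorem els_lt (i : ℕ) : ∀ s ∈ Out.sylEls.getD i [], s < 6 := letters_of syl_ok.1.1 i

theorem sgens_lt (i : ℕ) : ∀ s ∈ Out.sylGens.getD i [], s < 6 := letters_of syl_ok.1.2.1 i

theorem words_eq {a b : List ℕ} (ha : ∀ s ∈ a, s < 6) (hb : ∀ s ∈ b, s < 6)
    (h : eqOn 9 Model.codes Model.base a b = true) : evalW gen a = evalW gen b :=
  eq_of_eqOn coded base_isBase ha hb h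

theorem app_lt {a b : List ℕ} (ha : ∀ s ∈ a, s < 6) (hb : ∀ s ∈ b, s < 6) : ∀ s ∈ a ++ b, s < 6 :=
  fun s hs => (List.mem_append.mp hs).elim (ha s) (hb s)

theorem sylGens_length : Out.sylGens.length = 3 := rfl

theorem sylGe_mem {g : ℕ} (hg : g < 3) : sylGe g ∈ sylTwo :=
  Subgroup.subset_closure ⟨g, sylGens_length.symm ▸ hg, rfl⟩

theorem zWord_lt : ∀ s ∈ zWord, s < 6 := els_lt _

theorem z_ne_one : evalW gen zWord ≠ 1 := by
  intro h
  obtain ⟨hl, -, -, hz, -, he⟩ := fusion_words
  have hc : ∀ s ∈ Fus.conjWord, s < 6 := letters_of hl 1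
  have := words_eq (app_lt zWord_lt hc) (app_lt hc tWord_lt) he
  rw [evalW_append, evalW_append, h, one_mul, left_eq_mul] at this
  have h2 := orderOf_tInv
  rw [tInv, this, orderOf_one] at h2
  omega

theorem z_central {s : ↥Spor.McL} (hs : s ∈ sylTwo) : s * evalW gen zWord = evalW gen zWord * s := by
  refine Subgroup.closure_induction (p := fun s _ => s * evalW gen zWord = evalW gen zWord * s) ?_
    (by simp) (fun a b _ _ ha hb => Commute.mul_left ha hb) (fun a _ ha => Commute.inv_left ha) hs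
  rintro _ ⟨g, hg, rfl⟩
  have := words_eq (app_lt (sgens_lt g) zWord_lt) (app_lt zWord_lt (sgens_lt g))
    (allBelow_eq_true.mp centre_check.2 g (sylGens_length ▸ hg))
  rwa [evalW_append, evalW_append] at this

theorem center_cases {x : ↥Spor.McL} (hx : x ∈ sylTwo) (hc : ∀ s ∈ sylTwo, s * x = x * s) :
    x = 1 ∨ x = evalW gen zWord := by
  obtain ⟨i, hi, rfl⟩ := mem_sylTwo.mp hx
  have h := allBelow_eq_true.mp centre_check.1 i hi
  simp only [Bool.or_eq_true, Nat.beq_eq, Bool.not_eq_true'] at h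
  rcases h with (h | h) | h
  · left; rw [h, sylEl, syl_ok.2.2.1]; rfl
  · right; rw [h]; rfl
  · exfalso
    rw [← Bool.not_eq_true, allBelow_eq_true] at h
    refine h fun g hg => allB_of_forall fun p hp => ?_
    have e : evalW gen (Out.sylGens.getD g [] ++ Out.sylEls.getD i []) =
        evalW gen (Out.sylEls.getD i [] ++ Out.sylGens.getD g []) := by
      rw [evalW_append, evalW_append]; exact hc _ (sylGe_mem hg)
    rw [Nat.beq_eq, ← appW_spec coded _ (app_lt (sgens_lt g) (els_lt i)) ⟨p, base_isBase.1 p hp⟩, e,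
      appW_spec coded _ (app_lt (els_lt i) (sgens_lt g)) ⟨p, base_isBase.1 p hp⟩]

theorem label_fix {s : ↥Spor.McL} (hs : s ∈ sylTwo) (p : Fin 275) :
    getField 9 Fus.orbLabel (ι s p) = getField 9 Fus.orbLabel p := by
  revert p
  refine Subgroup.closure_induction
    (p := fun s _ => ∀ p : Fin 275, getField 9 Fus.orbLabel (ι s p) = getField 9 Fus.orbLabel p)
    ?_ (by simp) ?_ ?_ hs
  · rintro _ ⟨g, hg, rfl⟩ p
    have h := allBelow_eq_true.mp (allBelow_eq_true.mp label_check p p.2) g (sylGens_length ▸ hg)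
    rw [Nat.beq_eq, ← appW_spec coded _ (sgens_lt g) p] at h
    exact h
  · intro a b _ _ ha hb p
    rw [map_mul, Equiv.Perm.mul_apply, ha, hb]
  · intro a _ ha p
    have := ha (ι a⁻¹ p)
    rw [← Equiv.Perm.mul_apply, ← map_mul, mul_inv_cancel, map_one, Equiv.Perm.one_apply] at this
    exact this.symm

/-- A coset representative. -/
noncomputable def cosetRep (j : ℕ) : ↥Spor.McL := evalW gen (Fus.cosetWords.getD j [])

theorem coset_cases {x : ↥Spor.McL} (hx : x * evalW gen zWord = evalW gen zWord * x) :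
    ∃ j < 315, ∃ s ∈ sylTwo, x = cosetRep j * s := by
  obtain ⟨hl, hlc, hlg, -, hcc, he⟩ := fusion_words
  obtain ⟨-, h0, hstep, -⟩ := coset_check
  have hc : ∀ s ∈ Fus.conjWord, s < 6 := letters_of hl 1
  have hci : ∀ s ∈ Fus.conjInv, s < 6 := letters_of hl 2
  have einv := words_eq (app_lt hc hci) (by simp) hcc
  rw [evalW_append, show evalW gen [] = 1 from rfl] at einv
  have ez := words_eq (app_lt zWord_lt hc) (app_lt hc tWord_lt) he
  rw [evalW_append, evalW_append, ← tInv] at ez
  set c := evalW gen Fus.conjWord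
  have eci : evalW gen Fus.conjInv = c⁻¹ := eq_inv_of_mul_eq_one_right einv
  have hxt : c⁻¹ * x * c ∈ centT := by
    rw [Subgroup.mem_centralizer_singleton_iff]
    calc c⁻¹ * x * c * tInv = c⁻¹ * x * (c * tInv) := by group
      _ = c⁻¹ * (x * evalW gen zWord) * c := by rw [← ez]; group
      _ = c⁻¹ * (evalW gen zWord * x) * c := by rw [hx]
      _ = c⁻¹ * (evalW gen zWord * c) * (c⁻¹ * x * c) := by group
      _ = c⁻¹ * (c * tInv) * (c⁻¹ * x * c) := by rw [ez]
      _ = tInv * (c⁻¹ * x * c) := by group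
  let Good : Set ↥Spor.McL := {y | ∀ j < 315, ∀ s ∈ sylTwo, ∃ j' < 315, ∃ s' ∈ sylTwo,
    y * (cosetRep j * s) = cosetRep j' * s'}
  have key : ∀ y : centT, c * (y : ↥Spor.McL) * c⁻¹ ∈ Good := by
    intro y
    obtain ⟨-, -, -, h4, h5, h6, h7⟩ := cent_ok
    refine Submonoid.closure_induction (motive := fun (y : centT) _ => c * (y : ↥Spor.McL) * c⁻¹ ∈ Good) ?_ ?_ ?_
      (generates_of_card coded_cent h4 h5 cent0_lt h6 (by rw [h7, card_centralizer]) y)
    · rintro _ ⟨a, ha, rfl⟩ j hj s hs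
      have ha' : a < 4 := ha
      have h := allBelow_eq_true.mp (allBelow_eq_true.mp hstep j hj) a ha'
      simp only [Bool.and_eq_true, Nat.blt_eq] at h
      obtain ⟨⟨hk, hi⟩, heq⟩ := h
      have hw := words_eq (app_lt (app_lt hc (app_lt (letters_of hlg a) hci)) (letters_of hlc j))
        (app_lt (letters_of hlc _) (els_lt _)) heq
      simp only [cenWord, evalW_append, eci] at hw
      refine ⟨_, hk, _, mul_mem (mem_sylTwo.mpr ⟨_, hi, rfl⟩) hs, ?_⟩
      rw [← mul_assoc _ (sylEl _) s, sylEl]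
      simp only [cosetRep, ← hw]
      simp only [centGen, dif_pos ha', cosetRep, mul_assoc]
      rfl
    · intro j hj s hs
      exact ⟨j, hj, s, hs, by simp⟩
    · intro a b _ _ ha hb j hj s hs
      obtain ⟨j1, hj1, s1, hs1, e1⟩ := hb j hj s hs
      obtain ⟨j2, hj2, s2, hs2, e2⟩ := ha j1 hj1 s1 hs1
      refine ⟨j2, hj2, s2, hs2, ?_⟩
      rw [← e2, ← e1, Subgroup.coe_mul]
      group
  obtain ⟨j, hj, s, hs, e⟩ := key ⟨_, hxt⟩ 0 (by norm_num) 1 (one_mem _)
  refine ⟨j, hj, s, hs, ?_⟩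
  rw [← e, cosetRep, h0]
  show x = c * (c⁻¹ * x * c) * c⁻¹ * (1 * 1)
  group

theorem normalizer_eq : Subgroup.normalizer (sylTwo : Set ↥Spor.McL) ≤ sylTwo := by
  intro g hg
  have hzS : evalW gen zWord ∈ sylTwo := mem_sylTwo.mpr ⟨_, fusion_words.2.2.2.1, rfl⟩
  have hgz : g * evalW gen zWord * g⁻¹ = evalW gen zWord := by
    refine (center_cases ((Subgroup.mem_normalizer_iff.mp hg _).mp hzS) fun s hs => ?_).resolve_left
      fun h => z_ne_one (conj_eq_one_iff.mp h)
    have hs' : g⁻¹ * s * g ∈ sylTwo := (Subgroup.mem_normalizer_iff''.1 hg s).1 hs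
    calc s * (g * evalW gen zWord * g⁻¹) = g * ((g⁻¹ * s * g) * evalW gen zWord) * g⁻¹ := by group
      _ = g * (evalW gen zWord * (g⁻¹ * s * g)) * g⁻¹ := by rw [z_central hs']
      _ = g * evalW gen zWord * g⁻¹ * s := by group
  obtain ⟨j, hj, s, hs, rfl⟩ := coset_cases (mul_inv_eq_iff_eq_mul.mp hgz)
  have hr : cosetRep j ∈ Subgroup.normalizer (sylTwo : Set ↥Spor.McL) := by
    have := mul_mem hg (Subgroup.le_normalizer (inv_mem hs))
    rwa [mul_inv_cancel_right] at this
  have h := allBelow_eq_true.mp coset_check.2.2.2 j hj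
  simp only [Bool.or_eq_true, Nat.beq_eq, Bool.and_eq_true, Nat.blt_eq, Bool.not_eq_true'] at h
  rcases h with rfl | ⟨⟨hg3, hq⟩, hne⟩
  · rw [cosetRep, coset_check.2.1]
    exact mul_mem (one_mem _) hs
  · exfalso
    set a := (Fus.cosetWit.getD j (0, 0)).1
    have hconj : cosetRep j * sylGe a * (cosetRep j)⁻¹ ∈ sylTwo :=
      (Subgroup.mem_normalizer_iff.mp hr _).mp (sylGe_mem hg3)
    have hl := letters_of fusion_words.2.1 j
    have h2 := label_fix hconj (ι (cosetRep j) ⟨_, hq⟩)
    rw [← Equiv.Perm.mul_apply, ← map_mul, inv_mul_cancel_right] at h2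
    have e1 : ι (cosetRep j * sylGe a) ⟨_, hq⟩ =
        ι (evalW gen (Fus.cosetWords.getD j [] ++ Out.sylGens.getD a [])) ⟨_, hq⟩ := by
      rw [evalW_append]; rfl
    rw [e1, appW_spec coded _ (app_lt hl (sgens_lt _)) ⟨_, hq⟩] at h2
    rw [show ((ι (cosetRep j)) ⟨_, hq⟩ : ℕ) = _ from appW_spec coded _ hl ⟨_, hq⟩] at h2
    rw [← Bool.not_eq_true, Nat.beq_eq] at hne
    exact hne h2

theorem eq_of_eltClosed {T : Subgroup ↥Spor.McL} (hT : EltClosed sylTwo T) :
    T = ⊥ ∨ T = sylTwo := by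
  refine or_iff_not_imp_left.mpr fun hb => le_antisymm hT.1 ?_
  have := Fact.mk Nat.prime_two
  have hp : IsPGroup 2 T := (IsPGroup.of_card card_sylTwo).to_le hT.1
  obtain ⟨u, hu⟩ := exists_prime_orderOf_dvd_card' (G := T) 2 (by
    obtain ⟨n, hn⟩ := IsPGroup.iff_card.mp hp
    rcases n with _ | n
    · rw [pow_zero] at hn
      exact absurd (Subgroup.card_eq_one.mp hn) hb
    · rw [hn]; exact dvd_pow_self 2 n.succ_ne_zero)
  have hinv : ∀ v ∈ sylTwo, v * v = 1 → v ∈ T := by
    intro v hv hv2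
    rcases eq_or_ne v 1 with rfl | hne
    · exact T.one_mem
    have ho : orderOf v = 2 := orderOf_eq_prime (by rw [pow_two, hv2]) hne
    obtain ⟨g, hg⟩ := isConj_iff.mp
      ((conj_tInv u.1 (by rw [Subgroup.orderOf_coe, hu])).symm.trans (conj_tInv v ho))
    exact hg ▸ hT.2 u.1 u.2 g (hg.symm ▸ hv)
  refine (Subgroup.closure_le _).mpr ?_
  rintro _ ⟨g, hg, rfl⟩
  have hg3 : g < 3 := sylGens_length ▸ hg
  have h := allBelow_eq_true.mp inv_check.2 g hg3
  simp only [Bool.and_eq_true] at h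
  obtain ⟨hi, he⟩ := h
  have hlt : ∀ s ∈ (Fus.invProducts.getD g []).flatMap (fun i => Out.sylEls.getD i []), s < 6 := by
    intro s hs
    obtain ⟨i, -, hs⟩ := List.mem_flatMap.mp hs
    exact els_lt i s hs
  show sylGe g ∈ T
  rw [sylGe, words_eq (sgens_lt g) hlt he]
  clear hlt he
  revert hi
  generalize Fus.invProducts.getD g [] = l
  intro hi
  induction l with
  | nil => exact one_mem _
  | cons i l ih =>
    rw [List.flatMap_cons, evalW_append]
    have hi' : (Nat.blt i 128 && eqOn 9 Model.codes Model.base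
        (Out.sylEls.getD i [] ++ Out.sylEls.getD i []) []) = true := allB_spec hi i (by simp)
    simp only [Bool.and_eq_true, Nat.blt_eq] at hi'
    refine mul_mem (hinv _ (mem_sylTwo.mpr ⟨i, hi'.1, rfl⟩) ?_)
      (ih (allB_of_forall fun a ha => allB_spec hi a (List.mem_cons_of_mem _ ha)))
    have := words_eq (app_lt (els_lt i) (els_lt i)) (by simp) hi'.2
    rw [evalW_append] at this
    exact this

theorem isSimple_fusion {G : Type*} [Group G] [Finite G] (e : ↥Spor.McL ≃* G) (S : Sylow 2 G) :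
    (Cfsg.groupFusionSystem (S : Subgroup G)).IsSimple 2 := by
  have := Fact.mk Nat.prime_two
  let P : Sylow 2 ↥Spor.McL := Sylow.ofCard sylTwo (by rw [card_sylTwo, factorization_two])
  let T0 : Sylow 2 G := P.mapSurjective (f := e.toMonoidHom) e.surjective
  have hT0 : (T0 : Subgroup G) = sylTwo.map e.toMonoidHom := rfl
  refine isSimple_of_data T0 ?_ ?_ ?_ S <;> rw [hT0]
  · rw [Ne, Subgroup.map_eq_bot_iff_of_injective _ e.injective]
    intro h
    have := card_sylTwo
    rw [h, Subgroup.card_bot] at this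
    norm_num at this
  · intro T hT
    have h0 : EltClosed sylTwo (T.comap e.toMonoidHom) := by
      refine ⟨fun x hx => ?_, fun x hx g hg => ?_⟩
      · obtain ⟨y, hy, hye⟩ := hT.1 hx
        exact e.injective hye ▸ hy
      · have h := hT.2 (e x) hx (e g) ⟨g * x * g⁻¹, hg, by simp⟩
        show e (g * x * g⁻¹) ∈ T
        simpa using h
    have hT' : (T.comap e.toMonoidHom).map e.toMonoidHom = T :=
      Subgroup.map_comap_eq_self_of_surjective e.surjective T
    rcases eq_of_eltClosed h0 with h | h <;> rw [← hT', h]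
    exacts [Or.inl (Subgroup.map_bot _), Or.inr rfl]
  · intro g hg
    obtain ⟨x, rfl⟩ := e.surjective g
    refine Subgroup.mem_sup_left (Subgroup.mem_sup_left ⟨x, normalizer_eq
      (Subgroup.mem_normalizer_iff.2 fun y => ?_), rfl⟩)
    have h := Subgroup.mem_normalizer_iff.1 hg (e y)
    simp only [← map_inv, ← map_mul] at h
    constructor
    · intro hy
      obtain ⟨z, hz, hze⟩ := h.1 ⟨y, hy, rfl⟩
      exact e.injective hze ▸ hz
    · intro hy
      obtain ⟨z, hz, hze⟩ := h.2 ⟨_, hy, rfl⟩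
      exact e.injective hze ▸ hz

end Cfsg.Agent.McL
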